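import Cfsg.Agent.Lib.AbelIndexP.Essential

/-!
Abelian essential subgroups `Z(S)⟨x⟩` of fusion systems over groups with an abelian subgroup of index `p`.
-/

set_option autoImplicit false
set_option linter.unusedSectionVars false
set_option linter.style.haveILetI false

namespace Cfsg.Agent.Lib.AbelIndexP

open Cfsg Cfsg.FusionSystem
open scoped commutatorElement
open Cfsg.Agent.Lib.FS (finite_sub isConj_refl mem_autInducedBy autInducedBy_le_autGroup le_normalizerIn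
  fullyAutomized_of_fullyNormalized conj_mem_of_normalizer)

variable {Ω : Type*} [Group Ω] {S A : Subgroup Ω} {p : ℕ} [hp : Fact p.Prime] [Finite S]
  {F : FusionSystem S} {P : Subgroup Ω}

namespace Setup

variable (H : Setup S A p)
include H

theorem abelian_comm (hPS : P ≤ S) {x : Ω} (hx : x ∈ P) (hxA : x ∉ A) (hB : P ⊓ A = cen S) :
    ∀ y z : P, y * z = z * y := by
  intro y z
  obtain ⟨a, ha, i, hy⟩ := H.exists_decomp_in hPS hx hxA y.2
  obtain ⟨c, hc, j, hz⟩ := H.exists_decomp_in hPS hx hxA z.2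
  rw [hB] at ha hc
  apply Subtype.ext
  show (y : Ω) * z = z * y
  rw [hy, hz]
  have h1 : ∀ u ∈ cen S, ∀ s ∈ S, Commute s u := fun u hu s hs => hu.2 s hs
  exact (((h1 c hc a ha.1).mul_right ((h1 a ha x (hPS hx)).zpow_left j).symm).mul_left
    (((h1 c hc x (hPS hx)).zpow_left i).mul_right ((Commute.refl x).zpow_zpow i j))).eq

theorem exists_moving (hF : F.IsSaturated p) (hP : F.IsEssential p P) {x : Ω} (hx : x ∈ P) (hxA : x ∉ A)
    (hB : P ⊓ A = cen S) :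
    ∃ h ∈ F.autGroup P, ∃ z : P, (z : Ω) ∈ cen S ∧ ((h z : P) : Ω) ∉ A := by
  have hPS : P ≤ S := hP.2.1.1
  obtain ⟨a₀, ha₀, ha₀N, ha₀P⟩ := H.exists_normalizing hF hP hx hxA
  by_contra hall
  push Not at hall
  refine stab_false H.hS hF hP ((cen S).subgroupOf P) (fun α hα w hw => Subgroup.mem_subgroupOf.2
    (hB.le ⟨(α w).2, hall α hα w (Subgroup.mem_subgroupOf.1 hw)⟩)) ha₀N ha₀P (fun w hw => ?_) (fun y => ?_)
  · rw [(Subgroup.mem_subgroupOf.1 hw).2 a₀ (H.le ha₀), mul_inv_cancel_right]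
  · have h1 := H.comm_mem_inter hPS ha₀ ha₀N y.2
    exact ⟨⟨_, h1.1⟩, Subgroup.mem_subgroupOf.2 (hB.le h1), by
      show a₀ * (y : Ω) * a₀⁻¹ = ⁅a₀, (y : Ω)⁆ * y
      rw [commutatorElement_def, inv_mul_cancel_right]⟩

set_option maxHeartbeats 800000 in
/-- The data attached to an automorphism moving the centre. -/
theorem abelian_key (hF : F.IsSaturated p) (hP : F.IsEssential p P) {x : Ω} (hx : x ∈ P) (hxA : x ∉ A)
    (hB : P ⊓ A = cen S) {h : MulAut P} (hh : h ∈ F.autGroup P)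
    (hmove : ∃ z : P, (z : Ω) ∈ cen S ∧ ((h z : P) : Ω) ∉ A) :
    (P ⊓ A).relIndex (normalizerIn S P ⊓ A) = p ∧
      ∃ w₁ : P, (w₁ : Ω) ∈ cen S ∧ (w₁ : Ω) ∈ ⁅S, S⁆ ∧
        ((h⁻¹ w₁ : P) : Ω) ∉ cen S ∧
        (∀ z : P, (z : Ω) ∈ cen S → ∃ i : ℤ, ((h⁻¹ (z * w₁ ^ (-i)) : P) : Ω) ∈ cen S) ∧
        ∃ t ∈ F.autGroup P, (∀ e ∈ autInducedBy S P, t * e * t⁻¹ ∈ autInducedBy S P) ∧
          (∀ w : P, (w : Ω) ∈ cen S → ((h⁻¹ w : P) : Ω) ∈ cen S → t w = w) ∧ t w₁ = w₁⁻¹ := by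
  obtain ⟨z₀, hz₀, hy⟩ := hmove
  have hPS : P ≤ S := hP.2.1.1
  haveI := finite_sub hPS
  have hcomm := H.abelian_comm hPS hx hxA hB
  letI : CommGroup P := { (inferInstance : Group P) with mul_comm := hcomm }
  have hZP := H.cen_le_essential hP
  set y : P := h z₀ with hydef
  have hyinv : ((h⁻¹ y : P) : Ω) ∈ cen S := by rw [hydef, MulAut.inv_apply_self]; exact hz₀
  let W : Subgroup P := (cen S).subgroupOf P ⊓ ((cen S).subgroupOf P).map h.toMonoidHom
  have hWiff : ∀ w : P, w ∈ W ↔ (w : Ω) ∈ cen S ∧ ((h⁻¹ w : P) : Ω) ∈ cen S := by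
    intro w
    refine ⟨fun hw => ?_, fun hw => ⟨Subgroup.mem_subgroupOf.2 hw.1, h⁻¹ w, hw.2, MulAut.apply_inv_self _ h w⟩⟩
    obtain ⟨hw1, v, hv, hvw⟩ := hw
    refine ⟨Subgroup.mem_subgroupOf.1 hw1, ?_⟩
    rw [← hvw]
    show ((h⁻¹ (h v) : P) : Ω) ∈ cen S
    rw [MulAut.inv_apply_self]; exact hv
  -- every element of `P` is a central element times a power of `y`
  have hdec : ∀ q : P, ∃ c : P, (c : Ω) ∈ cen S ∧ ∃ i : ℤ, q = c * y ^ i := by
    intro q
    obtain ⟨c, hc, i, he⟩ := H.exists_decomp_in hPS y.2 hy q.2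
    exact ⟨⟨c, hc.1⟩, hB.le hc, i, Subtype.ext (by simpa using he)⟩
  -- `Aut_S(P)` fixes the centre of `S` and moves `P` inside it
  have hRfix : ∀ e ∈ autInducedBy S P, ∀ c : P, (c : Ω) ∈ cen S → e c = c := by
    intro e he c hc
    obtain ⟨g, hg, hge⟩ := mem_autInducedBy.1 he
    apply Subtype.ext
    rw [hge, hc.2 g hg, mul_inv_cancel_right]
  have hRdelta : ∀ e ∈ autInducedBy S P, ∀ q : P, ((e q * q⁻¹ : P) : Ω) ∈ cen S := by
    intro e he q
    obtain ⟨g, hg, hge⟩ := mem_autInducedBy.1 he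
    refine hB.le ⟨(e q * q⁻¹).2, ?_⟩
    obtain ⟨a, ha, i, hga⟩ := H.exists_decomp (hPS y.2) hy hg
    obtain ⟨c, hc, j, rfl⟩ := hdec q
    rw [map_mul, hRfix e he c hc, map_zpow]
    have e1 : c * (e y) ^ j * (c * y ^ j)⁻¹ = (e y * y⁻¹) ^ j := by
      rw [mul_zpow, inv_zpow, mul_inv, ← mul_assoc, mul_right_comm c, mul_inv_cancel, one_mul]
    rw [e1, SubgroupClass.coe_zpow]
    refine A.zpow_mem ?_ j
    show ((e y : P) : Ω) * (y : Ω)⁻¹ ∈ A
    rw [hge, hga]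
    have e2 : a * (y : Ω) ^ i * y * (a * (y : Ω) ^ i)⁻¹ * (y : Ω)⁻¹ = a * ((y : Ω) * a⁻¹ * (y : Ω)⁻¹) := by
      group
    rw [e2]
    exact A.mul_mem ha (H.conj_mem (hPS y.2) (A.inv_mem ha))
  -- automorphisms of the system stabilising the series given by `W` are trivial
  obtain ⟨R, hR⟩ := (fullyAutomized_of_fullyNormalized H.hS hF hP.2.1).2
  have hK : ∀ α ∈ F.autGroup P, α ∈ stab W → α = 1 := by
    intro α hα hαs
    let K := (stab W).subgroupOf (F.autGroup P)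
    have hKp : IsPGroup p K :=
      (stab_isPGroup (Cfsg.Agent.Lib.FS.isPGroup_of_le H.hS hPS) W).of_injective
        { toFun := fun k => ⟨((k : F.autGroup P) : MulAut P), Subgroup.mem_subgroupOf.1 k.2⟩
          map_one' := rfl
          map_mul' := fun _ _ => rfl }
        (fun a b h => by
          have := congrArg Subtype.val h
          exact Subtype.ext (Subtype.ext this))
    have hnorm : ∀ β : F.autGroup P, (∀ w ∈ W, (β : MulAut P) w = w) → ∀ k ∈ K, β * k * β⁻¹ ∈ K := by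
      intro β hβ k hk
      obtain ⟨hk1, hk2⟩ := Subgroup.mem_subgroupOf.1 hk
      have hβi : ∀ w ∈ W, (β : MulAut P)⁻¹ w = w := fun w hw => by
        conv_lhs => rw [← hβ w hw]
        rw [MulAut.inv_apply_self]
      refine Subgroup.mem_subgroupOf.2 ⟨fun w hw => ?_, fun q => ?_⟩
      · simp only [Subgroup.coe_mul, Subgroup.coe_inv, MulAut.mul_apply]
        rw [hβi w hw, hk1 w hw, hβ w hw]
      · simp only [Subgroup.coe_mul, Subgroup.coe_inv, MulAut.mul_apply]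
        have e : (β : MulAut P) ((k : MulAut P) ((β : MulAut P)⁻¹ q)) * q⁻¹ =
            (β : MulAut P) ((k : MulAut P) ((β : MulAut P)⁻¹ q) * ((β : MulAut P)⁻¹ q)⁻¹) := by
          rw [map_mul, map_inv (β : MulAut P), MulAut.apply_inv_self]
        rw [e, hβ _ (hk2 _)]
        exact hk2 _
    have h1 : K ≤ (R : Subgroup (F.autGroup P)) := le_sylow_of_normalized R hKp fun r hr k hk => by
      rw [hR, Subgroup.mem_subgroupOf] at hr
      exact hnorm r (fun w hw => hRfix _ hr w ((hWiff w).1 hw).1) k hk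
    have h2 : K ≤ ((⟨h, hh⟩ : F.autGroup P) • R : Sylow p (F.autGroup P)) := by
      refine le_sylow_of_normalized _ hKp fun r hr k hk => ?_
      obtain ⟨r₀, hr₀, rfl⟩ := hr
      have hr₀' : ((r₀ : F.autGroup P) : MulAut P) ∈ autInducedBy S P :=
        Subgroup.mem_subgroupOf.1 (hR ▸ hr₀)
      refine hnorm _ (fun w hw => ?_) k hk
      show (h * (r₀ : MulAut P) * h⁻¹) w = w
      rw [MulAut.mul_apply, MulAut.mul_apply, hRfix _ hr₀' _ ((hWiff w).1 hw).2, MulAut.apply_inv_self]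
    have hαK : (⟨α, hα⟩ : F.autGroup P) ∈ K := Subgroup.mem_subgroupOf.2 hαs
    have hα1 : α ∈ autInducedBy S P := by
      have := h1 hαK
      rw [hR, Subgroup.mem_subgroupOf] at this
      exact this
    obtain ⟨r₀, hr₀, hre⟩ := h2 hαK
    have hr₀' : ((r₀ : F.autGroup P) : MulAut P) ∈ autInducedBy S P :=
      Subgroup.mem_subgroupOf.1 (hR ▸ hr₀)
    have hαy : α y = y := by
      have he : α = h * (r₀ : MulAut P) * h⁻¹ := (congrArg Subtype.val hre).symm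
      rw [he, MulAut.mul_apply, MulAut.mul_apply, hRfix _ hr₀' _ hyinv, MulAut.apply_inv_self]
    refine MulEquiv.ext fun q => ?_
    obtain ⟨c, hc, i, rfl⟩ := hdec q
    rw [map_mul, map_zpow, hαy, hRfix α hα1 c hc]
    rfl
  obtain ⟨a₀, ha₀, ha₀N, ha₀P⟩ := H.exists_normalizing hF hP hx hxA
  -- elements of `N_A(P)` with commutator in `W`
  have hTker : ∀ a, a ∈ A → ∀ ha : a ∈ normalizerIn S P,
      (∃ w ∈ W, (w : Ω) = ⁅a, (y : Ω)⁆) → a ∈ cen S := by
    rintro a haA ha ⟨w, hw, hwa⟩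
    refine (H.comm_eq_one_iff (hPS y.2) hy haA).1 ?_
    have hu := cj_mem_induced (P := P) ha
    have huy : cj ha y = w * y := by
      apply Subtype.ext
      rw [Subgroup.coe_mul, hwa, cj_apply, commutatorElement_def, inv_mul_cancel_right]
    have hu1 : cj ha = 1 := by
      refine hK _ (autInducedBy_le_autGroup F hPS hu) ⟨fun v hv => hRfix _ hu v ((hWiff v).1 hv).1, fun q => ?_⟩
      obtain ⟨c, hc, i, rfl⟩ := hdec q
      rw [map_mul, map_zpow, hRfix _ hu c hc, huy, mul_zpow]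
      have : c * (w ^ i * y ^ i) * (c * y ^ i)⁻¹ = w ^ i := by
        rw [mul_left_comm, mul_inv_cancel_right]
      rw [this]
      exact W.zpow_mem hw i
    rw [hu1] at huy
    have h1 : w = 1 := by
      rw [MulAut.one_apply] at huy
      simpa using huy
    rw [← hwa, h1]; rfl
  let u := cj (P := P) ha₀N
  have huR : u ∈ autInducedBy S P := cj_mem_induced ha₀N
  have huA := autInducedBy_le_autGroup F hPS huR
  have hw₁P := H.comm_mem_inter hPS ha₀ ha₀N y.2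
  let w₁ : P := ⟨⁅a₀, (y : Ω)⁆, hw₁P.1⟩
  have hw₁Z : (w₁ : Ω) ∈ cen S := hB.le hw₁P
  have huy : u y = w₁ * y := by
    apply Subtype.ext
    show a₀ * (y : Ω) * a₀⁻¹ = ⁅a₀, (y : Ω)⁆ * y
    rw [commutatorElement_def, inv_mul_cancel_right]
  have hw₁W : w₁ ∉ W := fun hw =>
    ha₀P (H.cen_le_essential hP (hTker a₀ ha₀ ha₀N ⟨w₁, hw, rfl⟩))
  have hw₁h : ((h⁻¹ w₁ : P) : Ω) ∉ cen S := fun hc => hw₁W ((hWiff w₁).2 ⟨hw₁Z, hc⟩)
  have hw₁hA : ((h⁻¹ w₁ : P) : Ω) ∉ A := fun hc => hw₁h (hB.le ⟨(h⁻¹ w₁).2, hc⟩)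
  have hgen : ∀ z : P, (z : Ω) ∈ cen S → ∃ i : ℤ, ((h⁻¹ (z * w₁ ^ (-i)) : P) : Ω) ∈ cen S := by
    intro z hz
    obtain ⟨i, hi⟩ := H.exists_zpow (hPS (h⁻¹ w₁).2) hw₁hA (hPS (h⁻¹ z).2)
    exact ⟨i, hB.le ⟨(h⁻¹ (z * w₁ ^ (-i))).2, by simpa using hi⟩⟩
  have hrel : (P ⊓ A).relIndex (normalizerIn S P ⊓ A) = p := by
    haveI : Finite ↥(normalizerIn S P ⊓ A) := finite_sub (inf_le_left.trans inf_le_left)
    refine relIndex_eq_prime (a₀ := a₀) (inf_le_inf_right A (le_normalizerIn hPS))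
      (fun a ha c hc => H.comm a ha.2 c hc.2) ⟨ha₀N, ha₀⟩ (fun h => ha₀P h.1) (hB.ge ?_) ?_
    · refine hTker _ (A.pow_mem ha₀ p) ((normalizerIn S P).pow_mem ha₀N p) ⟨w₁ ^ p, (hWiff _).2
        ⟨by simpa using (cen S).pow_mem hw₁Z p, hB.le ⟨(h⁻¹ (w₁ ^ p)).2, ?_⟩⟩, ?_⟩
      · rw [map_pow, SubgroupClass.coe_pow]; exact H.pow_mem (hPS (h⁻¹ w₁).2)
      · rw [H.comm_pow (hPS y.2) ha₀]; simp [w₁]
    · intro a ha
      let w : P := ⟨_, (H.comm_mem_inter hPS ha.2 ha.1 y.2).1⟩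
      have hwZ : (w : Ω) ∈ cen S := hB.le (H.comm_mem_inter hPS ha.2 ha.1 y.2)
      obtain ⟨i, hi⟩ := hgen w hwZ
      refine ⟨i, hB.ge (hTker _ (A.mul_mem ha.2 (A.zpow_mem ha₀ _))
        ((normalizerIn S P).mul_mem ha.1 ((normalizerIn S P).zpow_mem ha₀N _))
        ⟨w * w₁ ^ (-i), (hWiff _).2 ⟨by simpa using (cen S).mul_mem hwZ ((cen S).zpow_mem hw₁Z (-i)), hi⟩, ?_⟩)⟩
      rw [H.comm_mul (hPS y.2) ha.2 (A.zpow_mem ha₀ _), H.comm_zpow (hPS y.2) ha₀]
      simp [w, w₁]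
  -- the conjugate transvection
  let v : MulAut P := h * u * h⁻¹
  have hvA : v ∈ F.autGroup P := mul_mem (mul_mem hh huA) (inv_mem hh)
  have hvh : ∀ q : P, ((h⁻¹ q : P) : Ω) ∈ cen S → v q = q := by
    intro q hq
    show (h * u * h⁻¹) q = q
    rw [MulAut.mul_apply, MulAut.mul_apply, hRfix u huR _ hq, MulAut.apply_inv_self]
  have hvd : ∀ q : P, ((h⁻¹ (v q * q⁻¹) : P) : Ω) ∈ cen S := by
    intro q
    have e : h⁻¹ (v q * q⁻¹) = u (h⁻¹ q) * (h⁻¹ q)⁻¹ := by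
      show h⁻¹ ((h * u * h⁻¹) q * q⁻¹) = _
      rw [map_mul, map_inv h⁻¹, MulAut.mul_apply, MulAut.mul_apply, MulAut.inv_apply_self]
    rw [e]; exact hRdelta u huR _
  set d : P := v w₁ * w₁⁻¹ with hd
  have hdA : (d : Ω) ∉ A := by
    intro hdA
    have hdW : d ∈ W := (hWiff d).2 ⟨hB.le ⟨d.2, hdA⟩, hvd w₁⟩
    have hv1 : v = 1 := by
      refine hK v hvA ⟨fun w hw => hvh w ((hWiff w).1 hw).2, fun q => ?_⟩
      obtain ⟨c, hc, i, rfl⟩ := hdec q
      obtain ⟨j, hj⟩ := hgen c hc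
      have hc' : c = c * w₁ ^ (-j) * w₁ ^ j := by rw [zpow_neg, inv_mul_cancel_right]
      have e : v (c * y ^ i) * (c * y ^ i)⁻¹ = d ^ j := by
        rw [map_mul, map_zpow, hvh y hyinv, mul_inv, mul_mul_mul_comm, mul_inv_cancel, mul_one]
        conv_lhs => rw [hc', map_mul, hvh _ hj, map_zpow]
        rw [hd, mul_inv, mul_mul_mul_comm, mul_inv_cancel, one_mul, mul_zpow, inv_zpow]
      rw [e]
      exact W.zpow_mem hdW j
    have hu1 : u = 1 := by
      have : u = h⁻¹ * v * h := by show u = h⁻¹ * (h * u * h⁻¹) * h; group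
      rw [this, hv1]; group
    apply hw₁W
    rw [hu1, MulAut.one_apply] at huy
    have : w₁ = 1 := by simpa using huy
    rw [this]; exact W.one_mem
  obtain ⟨j, hj⟩ := H.exists_zpow (hPS d.2) hdA (hPS (y⁻¹).2)
  set c : P := y⁻¹ * d ^ (-j) with hcdef
  have hcZ : (c : Ω) ∈ cen S := hB.le ⟨c.2, by simpa [hcdef] using hj⟩
  have hch : ((h⁻¹ c : P) : Ω) ∈ cen S := by
    rw [hcdef, map_mul, map_inv h⁻¹, map_zpow, Subgroup.coe_mul, Subgroup.coe_inv, SubgroupClass.coe_zpow]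
    exact (cen S).mul_mem ((cen S).inv_mem hyinv) ((cen S).zpow_mem (hvd w₁) (-j))
  let v' : MulAut P := v ^ j
  have hv'A : v' ∈ F.autGroup P := zpow_mem hvA j
  have hvd1 : v d = d := hvh d (hvd w₁)
  have hv'pow : ∀ k : ℤ, (v ^ k) w₁ = w₁ * d ^ k := by
    intro k
    induction k with
    | zero => simp
    | succ n ih =>
      rw [add_comm, zpow_one_add, MulAut.mul_apply, ih, map_mul, map_zpow, hvd1, zpow_one_add,
        show v w₁ = d * w₁ by rw [hd, inv_mul_cancel_right]]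
      ac_rfl
    | pred n ih =>
      have hv1 : v⁻¹ d = d := by conv_lhs => rw [← hvd1, MulAut.inv_apply_self]
      have hv2 : v⁻¹ w₁ = w₁ * d⁻¹ := by
        apply v.injective
        rw [MulAut.apply_inv_self, map_mul, map_inv v, hvd1, show v w₁ = d * w₁ by rw [hd, inv_mul_cancel_right],
          mul_comm d, mul_inv_cancel_right]
      rw [sub_eq_neg_add, zpow_add, zpow_neg_one, MulAut.mul_apply, ih, map_mul, map_zpow, hv1, hv2,
        zpow_add, zpow_neg_one, mul_assoc]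
  have hv'y : v' y = y := by
    have : ∀ k : ℤ, (v ^ k) y = y := by
      intro k
      induction k with
      | zero => simp
      | succ n ih => rw [add_comm, zpow_one_add, MulAut.mul_apply, ih, hvh y hyinv]
      | pred n ih =>
        rw [sub_eq_neg_add, zpow_add, zpow_neg_one, MulAut.mul_apply, ih]
        conv_lhs => rw [← hvh y hyinv, MulAut.inv_apply_self]
    exact this j
  have hv'W : ∀ w ∈ W, v' w = w := by
    intro w hw
    have hst : v ∈ MulAction.stabilizer (MulAut P) w := hvh w ((hWiff w).1 hw).2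
    exact (MulAction.stabilizer (MulAut P) w).zpow_mem hst j
  have hcW : c ∈ W := (hWiff c).2 ⟨hcZ, hch⟩
  have huW : ∀ w ∈ W, u w = w := fun w hw => hRfix u huR w ((hWiff w).1 hw).1
  have hv'w : v' w₁ = w₁ * y⁻¹ * c⁻¹ := by
    show (v ^ j) w₁ = _
    rw [hv'pow j, hcdef, mul_inv_rev, zpow_neg, inv_inv, inv_inv]
    rw [mul_comm (d ^ j) y, ← mul_assoc, inv_mul_cancel_right]
  let m : MulAut P := u * v' * u
  have hmW : ∀ w ∈ W, m w = w := fun w hw => by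
    show u (v' (u w)) = w
    rw [huW w hw, hv'W w hw, huW w hw]
  have hmw : m w₁ = y⁻¹ * c⁻¹ := by
    show u (v' (u w₁)) = _
    rw [hRfix u huR w₁ hw₁Z, hv'w, map_mul, map_mul, map_inv u, map_inv u, huy, hRfix u huR w₁ hw₁Z,
      huW c hcW, mul_inv, ← mul_assoc, mul_inv_cancel, one_mul]
  have hmy : m y = w₁ * c⁻¹ := by
    show u (v' (u y)) = _
    rw [huy, map_mul, hv'w, hv'y, show w₁ * y⁻¹ * c⁻¹ * y = w₁ * c⁻¹ by
      rw [mul_assoc (w₁ * y⁻¹), mul_comm c⁻¹ y, ← mul_assoc, inv_mul_cancel_right],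
      map_mul, map_inv u, hRfix u huR w₁ hw₁Z, huW c hcW]
  have hmc : m c = c := hmW c hcW
  let t : MulAut P := m * m
  have htA : t ∈ F.autGroup P :=
    mul_mem (mul_mem (mul_mem huA hv'A) huA) (mul_mem (mul_mem huA hv'A) huA)
  have htW : ∀ w ∈ W, t w = w := fun w hw => by show m (m w) = w; rw [hmW w hw, hmW w hw]
  have htw : t w₁ = w₁⁻¹ := by
    show m (m w₁) = _
    rw [hmw, map_mul, map_inv m, map_inv m, hmy, hmc, mul_inv, inv_inv, mul_assoc, mul_inv_cancel, mul_one]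
  have hty : t y * y ∈ W := by
    show m (m y) * y ∈ W
    rw [hmy, map_mul, map_inv m, hmw, hmc, mul_comm y⁻¹, mul_assoc c⁻¹, mul_comm y⁻¹, mul_assoc, mul_assoc,
      inv_mul_cancel, mul_one]
    exact W.mul_mem (W.inv_mem hcW) (W.inv_mem hcW)
  -- `t` inverts `P / W`
  have hTq : ∀ q : P, t q * q ∈ W := by
    intro q
    obtain ⟨b, hb, i, rfl⟩ := hdec q
    obtain ⟨k, hk⟩ := hgen b hb
    have hbW : b * w₁ ^ (-k) ∈ W := (hWiff _).2
      ⟨by simpa using (cen S).mul_mem hb ((cen S).zpow_mem hw₁Z (-k)), hk⟩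
    have hb' : b = b * w₁ ^ (-k) * w₁ ^ k := by rw [zpow_neg, inv_mul_cancel_right]
    have e : t (b * y ^ i) * (b * y ^ i) =
        t (b * w₁ ^ (-k)) * (b * w₁ ^ (-k)) * ((t w₁ * w₁) ^ k * (t y * y) ^ i) := by
      conv_lhs => rw [hb', map_mul, map_mul, map_zpow, map_zpow]
      rw [mul_zpow, mul_zpow, mul_mul_mul_comm, mul_mul_mul_comm (t (b * w₁ ^ (-k))), mul_assoc]
    rw [e, htW _ hbW, htw, inv_mul_cancel, one_zpow, one_mul]
    exact W.mul_mem (W.mul_mem hbW hbW) (W.zpow_mem hty i)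
  refine ⟨hrel, w₁, hw₁Z, Subgroup.commutator_mem_commutator (H.le ha₀) (hPS y.2), hw₁h, hgen, t, htA,
    fun e he => ?_, fun w hw hw' => htW w ((hWiff w).2 ⟨hw, hw'⟩), htw⟩
  have heA := autInducedBy_le_autGroup F hPS he
  have hcommute : t * e * t⁻¹ * e⁻¹ = 1 := by
    refine hK _ (mul_mem (mul_mem (mul_mem htA heA) (inv_mem htA)) (inv_mem heA)) ⟨fun w hw => ?_, fun q => ?_⟩
    · have h1 : e⁻¹ w = w := by conv_lhs => rw [← hRfix e he w ((hWiff w).1 hw).1, MulAut.inv_apply_self]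
      have h2 : t⁻¹ w = w := by conv_lhs => rw [← htW w hw, MulAut.inv_apply_self]
      simp only [MulAut.mul_apply]
      rw [h1, h2, hRfix e he w ((hWiff w).1 hw).1, htW w hw]
    · obtain ⟨r, rfl⟩ : ∃ r, e (t r) = q := ⟨t⁻¹ (e⁻¹ q), by simp⟩
      simp only [MulAut.mul_apply, MulAut.inv_apply_self]
      have e1 : t (e r) * (e (t r))⁻¹ = (t (e r) * e r) * (e (t r * r))⁻¹ := by
        rw [map_mul e, mul_inv, mul_mul_mul_comm, mul_inv_cancel, mul_one]
      rw [e1]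
      refine W.mul_mem (hTq _) (W.inv_mem ?_)
      rw [hRfix e he _ ((hWiff _).1 (hTq r)).1]
      exact hTq r
  rw [mul_inv_eq_one.1 hcommute]
  exact he

end Setup

end Cfsg.Agent.Lib.AbelIndexP
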