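import Mathlib
import Cfsg.Agent.Lib.FusionSystem.Basic

/-!
Groups of prime power order with an abelian subgroup `A` of index `p`: elementary structure.
-/

set_option autoImplicit false
set_option linter.unusedSectionVars false

namespace Cfsg.Agent.Lib.AbelIndexP

open scoped commutatorElement

variable {Ω : Type*} [Group Ω] {S A : Subgroup Ω} {p : ℕ}

/-- The centre of `S`, as a subgroup of the ambient group. -/
abbrev cen (S : Subgroup Ω) : Subgroup Ω := S ⊓ Subgroup.centralizer (S : Set Ω)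

theorem mem_cen {z : Ω} : z ∈ cen S ↔ z ∈ S ∧ ∀ s ∈ S, s * z = z * s := Iff.rfl

theorem cen_le : cen S ≤ S := inf_le_left

/-- The standing hypotheses: `S` a nonabelian `p`-group, `A` abelian of index `p` in `S`. -/
structure Setup (S A : Subgroup Ω) (p : ℕ) : Prop where
  hS : IsPGroup p S
  le : A ≤ S
  comm : ∀ a ∈ A, ∀ b ∈ A, a * b = b * a
  idx : (A.subgroupOf S).index = p
  na : ¬ IsMulCommutative S

variable [hp : Fact p.Prime]

/-- A subgroup of index `p` inside `T`, described by a generator of the quotient. -/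
theorem relIndex_eq_prime {B T : Subgroup Ω} [Finite T] (hBT : B ≤ T) (hc : ∀ a ∈ T, ∀ b ∈ T, a * b = b * a)
    {a₀ : Ω} (ha₀ : a₀ ∈ T) (hn : a₀ ∉ B) (hpow : a₀ ^ p ∈ B)
    (hgen : ∀ a ∈ T, ∃ i : ℤ, a * a₀ ^ (-i) ∈ B) : B.relIndex T = p := by
  haveI : (B.subgroupOf T).Normal := ⟨fun n hn g => by
    rw [Subgroup.mem_subgroupOf] at hn ⊢
    simp only [Subgroup.coe_mul, Subgroup.coe_inv]
    rw [hc g g.2 n n.2, mul_inv_cancel_right]
    exact hn⟩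
  let q := QuotientGroup.mk' (B.subgroupOf T)
  have h1 : orderOf (q ⟨a₀, ha₀⟩) = p := by
    refine orderOf_eq_prime ?_ ?_
    · rw [← map_pow]; exact (QuotientGroup.eq_one_iff _).2 hpow
    · exact fun h => hn (Subgroup.mem_subgroupOf.1 ((QuotientGroup.eq_one_iff _).1 h))
  have h2 : ∀ z, z ∈ Subgroup.zpowers (q ⟨a₀, ha₀⟩) := by
    intro z
    obtain ⟨⟨a, ha⟩, rfl⟩ := QuotientGroup.mk'_surjective _ z
    obtain ⟨i, hi⟩ := hgen a ha
    refine ⟨i, ?_⟩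
    show (q ⟨a₀, ha₀⟩) ^ i = q ⟨a, ha⟩
    rw [← map_zpow, ← mul_inv_eq_one, ← map_inv, ← map_mul]
    refine (QuotientGroup.eq_one_iff _).2 ?_
    rw [Subgroup.mem_subgroupOf]
    have h3 := B.inv_mem hi
    rw [mul_inv_rev, zpow_neg, inv_inv] at h3
    simpa using h3
  rw [Subgroup.relIndex, Subgroup.index_eq_card, ← orderOf_eq_card_of_forall_mem_zpowers h2, h1]

variable [Finite S]

namespace Setup

variable (H : Setup S A p)
include H

theorem finite_A : Finite A := FS.finite_sub H.le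

theorem normal : (A.subgroupOf S).Normal := by
  obtain ⟨n, hn⟩ := IsPGroup.iff_card.1 H.hS
  have hn0 : n ≠ 0 := by
    rintro rfl
    have := H.idx ▸ (A.subgroupOf S).index_dvd_card
    rw [hn, pow_zero, Nat.dvd_one] at this
    exact hp.out.one_lt.ne' this
  refine Subgroup.normal_of_index_eq_minFac_card ?_
  rw [H.idx, hn, Nat.pow_minFac hn0, hp.out.minFac_eq]

theorem conj_mem {s a : Ω} (hs : s ∈ S) (ha : a ∈ A) : s * a * s⁻¹ ∈ A :=
  Subgroup.mem_subgroupOf.1 (H.normal.conj_mem ⟨a, H.le ha⟩ (Subgroup.mem_subgroupOf.2 ha) ⟨s, hs⟩)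

theorem pow_mem {y : Ω} (hy : y ∈ S) : y ^ p ∈ A := by
  haveI := H.normal
  have := Subgroup.pow_index_mem (A.subgroupOf S) ⟨y, hy⟩
  rw [H.idx, Subgroup.mem_subgroupOf] at this
  exact this

theorem exists_zpow {x y : Ω} (hx : x ∈ S) (hxA : x ∉ A) (hy : y ∈ S) : ∃ i : ℤ, y * x ^ (-i) ∈ A := by
  haveI := H.normal
  let q := QuotientGroup.mk' (A.subgroupOf S)
  have hc : Nat.card (↥S ⧸ A.subgroupOf S) = p := H.idx
  have h1 : q ⟨x, hx⟩ ≠ 1 := fun h =>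
    hxA (Subgroup.mem_subgroupOf.1 ((QuotientGroup.eq_one_iff _).1 h))
  obtain ⟨i, hi⟩ := mem_zpowers_of_prime_card hc h1 (g' := q ⟨y, hy⟩)
  refine ⟨i, ?_⟩
  have h2 : q (⟨y, hy⟩ * ⟨x, hx⟩ ^ (-i)) = 1 := by
    rw [map_mul, map_zpow, zpow_neg, ← hi, mul_inv_cancel]
  simpa using Subgroup.mem_subgroupOf.1 ((QuotientGroup.eq_one_iff _).1 h2)

/-- Decomposition with respect to an element outside `A`. -/
theorem exists_decomp {x y : Ω} (hx : x ∈ S) (hxA : x ∉ A) (hy : y ∈ S) :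
    ∃ a ∈ A, ∃ i : ℤ, y = a * x ^ i := by
  obtain ⟨i, hi⟩ := H.exists_zpow hx hxA hy
  exact ⟨_, hi, i, by rw [zpow_neg, inv_mul_cancel_right]⟩

/-- Decomposition inside a subgroup containing an element outside `A`. -/
theorem exists_decomp_in {K : Subgroup Ω} (hK : K ≤ S) {x y : Ω} (hx : x ∈ K) (hxA : x ∉ A) (hy : y ∈ K) :
    ∃ a ∈ K ⊓ A, ∃ i : ℤ, y = a * x ^ i := by
  obtain ⟨a, ha, i, rfl⟩ := H.exists_decomp (hK hx) hxA (hK hy)
  refine ⟨a, ⟨?_, ha⟩, i, rfl⟩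
  have := K.mul_mem hy (K.inv_mem (K.zpow_mem hx i))
  rwa [mul_inv_cancel_right] at this

theorem eq_sup {K : Subgroup Ω} (hK : K ≤ S) {x : Ω} (hx : x ∈ K) (hxA : x ∉ A) :
    K = (K ⊓ A) ⊔ Subgroup.zpowers x := by
  refine le_antisymm (fun y hy => ?_) (sup_le inf_le_left (Subgroup.zpowers_le.2 hx))
  obtain ⟨a, ha, i, rfl⟩ := H.exists_decomp_in hK hx hxA hy
  exact Subgroup.mul_mem_sup ha (Subgroup.zpow_mem_zpowers x i)

theorem relIndex_inf {K : Subgroup Ω} (hK : K ≤ S) {x : Ω} (hx : x ∈ K) (hxA : x ∉ A) :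
    (K ⊓ A).relIndex K = p := by
  haveI := H.normal
  have h1 : (A.subgroupOf S).relIndex (K.subgroupOf S) ∣ (A.subgroupOf S).index :=
    Subgroup.relIndex_dvd_index_of_normal _ _
  rw [H.idx, Subgroup.relIndex_subgroupOf hK] at h1
  rcases (Nat.dvd_prime hp.out).1 h1 with h | h
  · exact absurd (Subgroup.relIndex_eq_one.1 h hx) hxA
  · rwa [Subgroup.inf_relIndex_left]

theorem card_eq {K : Subgroup Ω} (hK : K ≤ S) {x : Ω} (hx : x ∈ K) (hxA : x ∉ A) :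
    Nat.card K = Nat.card ↥(K ⊓ A) * p := by
  have h := Subgroup.relIndex_mul_relIndex ⊥ (K ⊓ A) K bot_le inf_le_left
  rw [Subgroup.relIndex_bot_left, Subgroup.relIndex_bot_left, H.relIndex_inf hK hx hxA] at h
  exact h.symm

theorem card_S : Nat.card S = Nat.card A * p := by
  rw [← H.idx, Subgroup.index]
  have h := Subgroup.card_eq_card_quotient_mul_card_subgroup (A.subgroupOf S)
  rw [Nat.card_congr (Subgroup.subgroupOfEquivOfLe H.le).toEquiv] at h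
  rw [h, mul_comm]

/-- An element of `S` commuting with `A` and with an element outside `A` is central. -/
theorem mem_cen_of {x z : Ω} (hx : x ∈ S) (hxA : x ∉ A) (hz : z ∈ S) (h1 : ∀ a ∈ A, a * z = z * a)
    (h2 : x * z = z * x) : z ∈ cen S := by
  refine ⟨hz, fun s hs => ?_⟩
  obtain ⟨a, ha, i, rfl⟩ := H.exists_decomp hx hxA hs
  exact (Commute.mul_left (show Commute a z from h1 a ha) ((show Commute x z from h2).zpow_left i)).eq

theorem cen_le_A : cen S ≤ A := by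
  intro z hz
  by_contra hzA
  refine H.na ⟨⟨fun s t => Subtype.ext ?_⟩⟩
  obtain ⟨a, ha, i, hs⟩ := H.exists_decomp hz.1 hzA s.2
  obtain ⟨b, hb, j, ht⟩ := H.exists_decomp hz.1 hzA t.2
  show (s : Ω) * t = t * s
  rw [hs, ht]
  have hzc : ∀ c ∈ A, Commute c z := fun c hc => hz.2 c (H.le hc)
  exact (((show Commute a b from H.comm a ha b hb).mul_right ((hzc a ha).zpow_right j)).mul_left
    (((hzc b hb).symm.zpow_left i).mul_right ((Commute.refl z).zpow_zpow i j))).eq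

theorem cen_of_commute {x a : Ω} (hx : x ∈ S) (hxA : x ∉ A) (ha : a ∈ A) (h : x * a = a * x) : a ∈ cen S :=
  H.mem_cen_of hx hxA (H.le ha) (fun b hb => H.comm b hb a ha) h

/-! ### The commutator map `a ↦ ⁅a, x⁆` on `A` -/

theorem comm_mem {x a : Ω} (hx : x ∈ S) (ha : a ∈ A) : ⁅a, x⁆ ∈ A := by
  rw [commutatorElement_def, show a * x * a⁻¹ * x⁻¹ = a * (x * a⁻¹ * x⁻¹) by group]
  exact A.mul_mem ha (H.conj_mem hx (A.inv_mem ha))

theorem comm_mul {x a b : Ω} (hx : x ∈ S) (ha : a ∈ A) (hb : b ∈ A) : ⁅a * b, x⁆ = ⁅a, x⁆ * ⁅b, x⁆ := by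
  have e : ⁅a * b, x⁆ = a * ⁅b, x⁆ * a⁻¹ * ⁅a, x⁆ := by
    simp only [commutatorElement_def]; group
  rw [e, H.comm a ha _ (H.comm_mem hx hb), mul_inv_cancel_right,
    H.comm _ (H.comm_mem hx hb) _ (H.comm_mem hx ha)]

/-- The map `a ↦ ⁅a, x⁆` on `A`. -/
def fHom {x : Ω} (hx : x ∈ S) : A →* Ω :=
  MonoidHom.mk' (fun a : A => ⁅(a : Ω), x⁆) fun a b => H.comm_mul hx a.2 b.2

theorem comm_zpow {x a : Ω} (hx : x ∈ S) (ha : a ∈ A) (i : ℤ) : ⁅a ^ i, x⁆ = ⁅a, x⁆ ^ i :=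
  map_zpow (H.fHom hx) ⟨a, ha⟩ i

theorem comm_pow {x a : Ω} (hx : x ∈ S) (ha : a ∈ A) (i : ℕ) : ⁅a ^ i, x⁆ = ⁅a, x⁆ ^ i :=
  map_pow (H.fHom hx) ⟨a, ha⟩ i

theorem comm_inv {x a : Ω} (hx : x ∈ S) (ha : a ∈ A) : ⁅a⁻¹, x⁆ = ⁅a, x⁆⁻¹ :=
  map_inv (H.fHom hx) ⟨a, ha⟩

theorem comm_eq_one_iff {x a : Ω} (hx : x ∈ S) (hxA : x ∉ A) (ha : a ∈ A) :
    ⁅a, x⁆ = 1 ↔ a ∈ cen S := by
  rw [commutatorElement_eq_one_iff_mul_comm]
  exact ⟨fun h => H.cen_of_commute hx hxA ha h.symm, fun h => (h.2 x hx).symm⟩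

/-- The image of `a ↦ ⁅a, x⁆`. -/
def R {x : Ω} (hx : x ∈ S) : Subgroup Ω := (H.fHom hx).range

theorem mem_R {x : Ω} (hx : x ∈ S) {z : Ω} : z ∈ H.R hx ↔ ∃ a ∈ A, ⁅a, x⁆ = z :=
  ⟨fun ⟨a, ha⟩ => ⟨a, a.2, ha⟩, fun ⟨a, ha, h⟩ => ⟨⟨a, ha⟩, h⟩⟩

theorem R_le_A {x : Ω} (hx : x ∈ S) : H.R hx ≤ A := by
  rintro _ ⟨a, rfl⟩
  exact H.comm_mem hx a.2

theorem R_conj {x : Ω} (hx : x ∈ S) (hxA : x ∉ A) {s : Ω} (hs : s ∈ S) {z : Ω} (hz : z ∈ H.R hx) :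
    s * z * s⁻¹ ∈ H.R hx := by
  obtain ⟨a, ha, rfl⟩ := (H.mem_R hx).1 hz
  obtain ⟨c, hc, i, rfl⟩ := H.exists_decomp hx hxA hs
  refine (H.mem_R hx).2 ⟨x ^ i * a * (x ^ i)⁻¹, H.conj_mem (S.zpow_mem hx i) ha, ?_⟩
  have e : c * x ^ i * ⁅a, x⁆ * (c * x ^ i)⁻¹ = c * (x ^ i * ⁅a, x⁆ * (x ^ i)⁻¹) * c⁻¹ := by group
  rw [e, H.comm c hc _ (H.conj_mem (S.zpow_mem hx i) (H.comm_mem hx ha)), mul_inv_cancel_right]
  simp only [commutatorElement_def]; group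

/-- All commutators of `S` lie in the image of `a ↦ ⁅a, x⁆`. -/
theorem commutator_le {x : Ω} (hx : x ∈ S) (hxA : x ∉ A) : ⁅S, S⁆ ≤ H.R hx := by
  have hxa : ∀ a ∈ A, ⁅x, a⁆ ∈ H.R hx := fun a ha => by
    rw [← commutatorElement_inv]; exact (H.R hx).inv_mem ((H.mem_R hx).2 ⟨a, ha, rfl⟩)
  -- commutators with a fixed element
  have key : ∀ g ∈ S, (∀ a ∈ A, ⁅g, a⁆ ∈ H.R hx) → ⁅g, x⁆ ∈ H.R hx → ∀ h ∈ S, ⁅g, h⁆ ∈ H.R hx := by
    intro g _ h1 h2 h hh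
    let K : Subgroup Ω :=
      { carrier := {k | k ∈ S ∧ ⁅g, k⁆ ∈ H.R hx}
        one_mem' := ⟨S.one_mem, by rw [commutatorElement_one_right]; exact (H.R hx).one_mem⟩
        mul_mem' := fun {a b} ha hb => ⟨S.mul_mem ha.1 hb.1, by
          have e : ⁅g, a * b⁆ = ⁅g, a⁆ * (a * ⁅g, b⁆ * a⁻¹) := by
            simp only [commutatorElement_def]; group
          rw [e]; exact (H.R hx).mul_mem ha.2 (H.R_conj hx hxA ha.1 hb.2)⟩
        inv_mem' := fun {a} ha => ⟨S.inv_mem ha.1, by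
          have e : ⁅g, a⁻¹⁆ = a⁻¹ * ⁅g, a⁆⁻¹ * a⁻¹⁻¹ := by
            simp only [commutatorElement_def]; group
          rw [e]; exact H.R_conj hx hxA (S.inv_mem ha.1) ((H.R hx).inv_mem ha.2)⟩ }
    obtain ⟨a, ha, i, rfl⟩ := H.exists_decomp hx hxA hh
    exact (K.mul_mem (show a ∈ K from ⟨H.le ha, h1 a ha⟩) (K.zpow_mem (show x ∈ K from ⟨hx, h2⟩) i)).2
  have hA : ∀ a ∈ A, ∀ h ∈ S, ⁅a, h⁆ ∈ H.R hx := fun a ha =>
    key a (H.le ha) (fun b hb => by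
      rw [commutatorElement_eq_one_iff_mul_comm.2 (H.comm a ha b hb)]; exact (H.R hx).one_mem)
      ((H.mem_R hx).2 ⟨a, ha, rfl⟩)
  have hX : ∀ h ∈ S, ⁅x, h⁆ ∈ H.R hx :=
    key x hx hxa (by rw [commutatorElement_self]; exact (H.R hx).one_mem)
  rw [Subgroup.commutator_le]
  intro g hg h hh
  refine key g hg (fun a ha => ?_) ?_ h hh
  · rw [← commutatorElement_inv]; exact (H.R hx).inv_mem (hA a ha g hg)
  · rw [← commutatorElement_inv]; exact (H.R hx).inv_mem (hX g hg)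

theorem R_eq {x : Ω} (hx : x ∈ S) (hxA : x ∉ A) : H.R hx = ⁅S, S⁆ := by
  refine le_antisymm ?_ (H.commutator_le hx hxA)
  rintro _ ⟨a, rfl⟩
  exact Subgroup.commutator_mem_commutator (H.le a.2) hx

theorem comm_right {x a : Ω} (hx : x ∈ S) (ha : a ∈ A) (h : ⁅a, x⁆ ∈ cen S) (i : ℤ) :
    ⁅a, x ^ i⁆ ∈ cen S := by
  let K : Subgroup Ω :=
    { carrier := {k | k ∈ S ∧ ⁅a, k⁆ ∈ cen S}
      one_mem' := ⟨S.one_mem, by rw [commutatorElement_one_right]; exact (cen S).one_mem⟩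
      mul_mem' := fun {b c} hb hc => ⟨S.mul_mem hb.1 hc.1, by
        have e : ⁅a, b * c⁆ = ⁅a, b⁆ * (b * ⁅a, c⁆ * b⁻¹) := by
          simp only [commutatorElement_def]; group
        rw [e, hc.2.2 b hb.1, mul_inv_cancel_right]
        exact (cen S).mul_mem hb.2 hc.2⟩
      inv_mem' := fun {b} hb => ⟨S.inv_mem hb.1, by
        have e : ⁅a, b⁻¹⁆ = b⁻¹ * ⁅a, b⁆⁻¹ * b⁻¹⁻¹ := by
          simp only [commutatorElement_def]; group
        rw [e, ((cen S).inv_mem hb.2).2 b⁻¹ (S.inv_mem hb.1), mul_inv_cancel_right]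
        exact (cen S).inv_mem hb.2⟩ }
  exact (K.zpow_mem (show x ∈ K from ⟨hx, h⟩) i).2

theorem mem_upperTwo_iff {y : Ω} :
    y ∈ (Subgroup.upperCentralSeries ↥S 2).map S.subtype ↔ y ∈ S ∧ ∀ s ∈ S, ⁅y, s⁆ ∈ cen S := by
  constructor
  · rintro ⟨y, hy, rfl⟩
    refine ⟨y.2, fun s hs => ?_⟩
    have h1 := Subgroup.mem_upperCentralSeries_succ_iff.1 hy ⟨s, hs⟩
    rw [Subgroup.upperCentralSeries_one, Subgroup.mem_center_iff] at h1
    refine ⟨S.mul_mem (S.mul_mem (S.mul_mem y.2 hs) (S.inv_mem y.2)) (S.inv_mem hs), fun t ht => ?_⟩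
    exact congrArg Subtype.val (h1 ⟨t, ht⟩)
  · rintro ⟨hy, h⟩
    refine ⟨⟨y, hy⟩, Subgroup.mem_upperCentralSeries_succ_iff.2 fun s => ?_, rfl⟩
    rw [Subgroup.upperCentralSeries_one, Subgroup.mem_center_iff]
    exact fun t => Subtype.ext ((h s s.2).2 t t.2)

end Setup

end Cfsg.Agent.Lib.AbelIndexP
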