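import Cfsg.Agent.Lib.AbelIndexP.Abelian

/-!
Structure of `S` when some essential subgroup differs from the unique abelian subgroup of index `p`.
-/

set_option autoImplicit false
set_option linter.unusedSectionVars false
set_option linter.style.haveILetI false

namespace Cfsg.Agent.Lib.AbelIndexP

open Cfsg Cfsg.FusionSystem
open scoped commutatorElement
open Cfsg.Agent.Lib.FS (finite_sub)

variable {Ω : Type*} [Group Ω] {S A : Subgroup Ω} {p : ℕ} [hp : Fact p.Prime] [Finite S]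
  {F : FusionSystem S} {P : Subgroup Ω}

namespace Setup

variable (H : Setup S A p)
include H

/-- Elements of `A` with central commutator with `x` lie in the second centre. -/
theorem mem_upperTwo_of {x a : Ω} (hx : x ∈ S) (hxA : x ∉ A) (ha : a ∈ A) (h : ⁅a, x⁆ ∈ cen S) :
    a ∈ (Subgroup.upperCentralSeries ↥S 2).map S.subtype := by
  refine H.mem_upperTwo_iff.2 ⟨H.le ha, fun s hs => ?_⟩
  obtain ⟨c, hc, i, rfl⟩ := H.exists_decomp hx hxA hs
  have hci := H.comm_right hx ha h i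
  have e : ⁅a, c * x ^ i⁆ = ⁅a, c⁆ * (c * ⁅a, x ^ i⁆ * c⁻¹) := by
    simp only [commutatorElement_def]; group
  rw [e, commutatorElement_eq_one_iff_mul_comm.2 (H.comm a ha c hc), one_mul, hci.2 c (H.le hc),
    mul_inv_cancel_right]
  exact hci

/-- The second centre lies in `A` and is one step above the centre. -/
theorem upperTwo_props (hF : F.IsSaturated p)
    (huniq : ∀ B : Subgroup Ω, B ≤ S → IsMulCommutative ↥B → (B.subgroupOf S).index = p → B = A)
    (hP : F.IsEssential p P) {x : Ω} (hx : x ∈ P) (hxA : x ∉ A) :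
    (Subgroup.upperCentralSeries ↥S 2).map S.subtype ≤ A ∧
      (cen S).relIndex ((Subgroup.upperCentralSeries ↥S 2).map S.subtype) = p := by
  have hPS : P ≤ S := hP.2.1.1
  have hxS := hPS hx
  by_cases hB : P ⊓ A = cen S
  · obtain ⟨h, hh, hmove⟩ := H.exists_moving hF hP hx hxA hB
    obtain ⟨hrel, -⟩ := H.abelian_key hF hP hx hxA hB hh hmove
    rw [hB] at hrel
    have hle : (Subgroup.upperCentralSeries ↥S 2).map S.subtype ≤ A := by
      intro y hy
      obtain ⟨hyS, hy⟩ := H.mem_upperTwo_iff.1 hy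
      by_contra hyA
      obtain ⟨c, hc, k, hk⟩ := H.exists_decomp hyS hyA hxS
      have hall : normalizerIn S P ⊓ A = A := by
        refine inf_eq_right.2 fun a ha => H.normalizes_of_comm hP hx hxA ha ?_
        have h1 : ⁅a, y⁆ ∈ cen S := by
          rw [← commutatorElement_inv]; exact (cen S).inv_mem (hy a (H.le ha))
        have h2 := H.comm_right hyS ha h1 k
        rw [hk]
        have e : ⁅a, c * y ^ k⁆ = ⁅a, c⁆ * (c * ⁅a, y ^ k⁆ * c⁻¹) := by
          simp only [commutatorElement_def]; group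
        rw [e, commutatorElement_eq_one_iff_mul_comm.2 (H.comm a ha c hc), one_mul, h2.2 c (H.le hc),
          mul_inv_cancel_right]
        exact h2
      rw [hall] at hrel
      have hPc := H.card_eq hPS hx hxA
      rw [hB] at hPc
      have hA' := Subgroup.relIndex_mul_relIndex ⊥ (cen S) A bot_le H.cen_le_A
      rw [Subgroup.relIndex_bot_left, Subgroup.relIndex_bot_left, hrel] at hA'
      have hP' := Subgroup.relIndex_mul_relIndex ⊥ P S bot_le hPS
      rw [Subgroup.relIndex_bot_left, Subgroup.relIndex_bot_left, H.card_S, ← hA', hPc] at hP'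
      haveI : Finite (cen S) := finite_sub inf_le_left
      have hidx : P.relIndex S = p :=
        Nat.eq_of_mul_eq_mul_left (Nat.mul_pos Nat.card_pos hp.out.pos) hP'
      exact hxA (huniq P hPS ⟨⟨H.abelian_comm hPS hx hxA hB⟩⟩ hidx ▸ hx)
    have heq : (Subgroup.upperCentralSeries ↥S 2).map S.subtype = normalizerIn S P ⊓ A := by
      refine le_antisymm (fun a ha => ⟨?_, hle ha⟩) fun a ha => H.mem_upperTwo_of hxS hxA ha.2 ?_
      · exact hB.le (H.comm_mem_inter hPS ha.2 ha.1 hx)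
      · exact H.normalizes_of_comm hP hx hxA (hle ha) ((H.mem_upperTwo_iff.1 ha).2 x hxS)
    exact ⟨hle, heq ▸ hrel⟩
  · obtain ⟨hZ, -, -, -, hrel⟩ := H.nonabelian_case hF hP hx hxA hB
    exact ⟨hZ ▸ inf_le_right, hZ ▸ hrel⟩

variable {x : Ω} (hxS : x ∈ S) (hxA : x ∉ A)
  (hle : (Subgroup.upperCentralSeries ↥S 2).map S.subtype ≤ A)
  (hrel : (cen S).relIndex ((Subgroup.upperCentralSeries ↥S 2).map S.subtype) = p)
include hxS hxA hle hrel

theorem card_cen_inf_derived : Nat.card ↥(cen S ⊓ ⁅S, S⁆) = p := by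
  let f : ↥((Subgroup.upperCentralSeries ↥S 2).map S.subtype) →* Ω :=
    (H.fHom hxS).comp (Subgroup.inclusion hle)
  have hker : f.ker = (cen S).subgroupOf ((Subgroup.upperCentralSeries ↥S 2).map S.subtype) := by
    ext a
    rw [MonoidHom.mem_ker, Subgroup.mem_subgroupOf]
    exact H.comm_eq_one_iff hxS hxA (hle a.2)
  have hrange : f.range = cen S ⊓ ⁅S, S⁆ := by
    apply le_antisymm
    · rintro _ ⟨a, rfl⟩
      exact ⟨(H.mem_upperTwo_iff.1 a.2).2 x hxS, Subgroup.commutator_mem_commutator (H.le (hle a.2)) hxS⟩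
    · rintro z ⟨hz, hzD⟩
      obtain ⟨a, ha, rfl⟩ := (H.mem_R hxS).1 (H.commutator_le hxS hxA hzD)
      exact ⟨⟨a, H.mem_upperTwo_of hxS hxA ha hz⟩, rfl⟩
  rw [← hrange, ← Subgroup.index_ker, hker]
  exact hrel

theorem card_derived : Nat.card ↥⁅S, S⁆ = (cen S).relIndex A := by
  have hker : (H.fHom hxS).ker = (cen S).subgroupOf A := by
    ext a
    rw [MonoidHom.mem_ker, Subgroup.mem_subgroupOf]
    exact H.comm_eq_one_iff hxS hxA a.2
  rw [← H.R_eq hxS hxA]
  show Nat.card ↥(H.fHom hxS).range = _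
  rw [← Subgroup.index_ker, hker]
  rfl

theorem relIndex_sup : (cen S ⊔ ⁅S, S⁆).relIndex A = p := by
  haveI := H.finite_A
  have hDA : ⁅S, S⁆ ≤ A := (H.R_eq hxS hxA) ▸ H.R_le_A hxS
  haveI : ((cen S).subgroupOf A).Normal := ⟨fun n hn g => by
    rw [Subgroup.mem_subgroupOf] at hn ⊢
    simp only [Subgroup.coe_mul, Subgroup.coe_inv]
    rw [H.comm g g.2 n n.2, mul_inv_cancel_right]
    exact hn⟩
  have h1 : (cen S).relIndex (cen S ⊔ ⁅S, S⁆) = (cen S).relIndex ⁅S, S⁆ := by
    rw [← Subgroup.relIndex_subgroupOf (sup_le H.cen_le_A hDA),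
      ← Subgroup.relIndex_subgroupOf (H := cen S) hDA, Subgroup.subgroupOf_sup H.cen_le_A hDA,
      Subgroup.relIndex_sup_left]
  have h2 := Subgroup.relIndex_mul_relIndex (cen S) (cen S ⊔ ⁅S, S⁆) A le_sup_left (sup_le H.cen_le_A hDA)
  have h3 : (cen S ⊓ ⁅S, S⁆).relIndex ⁅S, S⁆ * Nat.card ↥(cen S ⊓ ⁅S, S⁆) = Nat.card ↥⁅S, S⁆ := by
    have := Subgroup.relIndex_mul_relIndex ⊥ (cen S ⊓ ⁅S, S⁆) ⁅S, S⁆ bot_le inf_le_right
    rw [Subgroup.relIndex_bot_left, Subgroup.relIndex_bot_left] at this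
    rw [mul_comm]; exact this
  rw [Subgroup.inf_relIndex_right, H.card_cen_inf_derived hxS hxA hle hrel,
    H.card_derived hxS hxA hle hrel] at h3
  rw [h1] at h2
  haveI : Finite ↥⁅S, S⁆ := finite_sub (hDA.trans H.le)
  have hpos : 0 < (cen S).relIndex ⁅S, S⁆ := Nat.pos_of_ne_zero fun h0 => by
    rw [h0, zero_mul] at h3
    exact (Nat.card_pos (α := ↥⁅S, S⁆)).ne' ((H.card_derived hxS hxA hle hrel).trans h3.symm)
  exact Nat.eq_of_mul_eq_mul_left hpos (h2.trans h3.symm)

theorem class_quotient (m : ℕ) (hm : (cen S).relIndex S = p ^ m) (hm3 : 3 ≤ m) :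
    ¬ Subgroup.lowerCentralSeries S (m - 2) ≤ cen S := by
  haveI := H.finite_A
  have hcard : (cen S).relIndex A = p ^ (m - 1) := by
    have h := Subgroup.relIndex_mul_relIndex (cen S) A S H.cen_le_A H.le
    have hi : A.relIndex S = p := H.idx
    rw [hi, hm, show m = m - 1 + 1 by omega, pow_succ] at h
    exact Nat.eq_of_mul_eq_mul_right hp.out.pos h
  obtain ⟨M, hM0, hMs⟩ : ∃ M : ℕ → Subgroup Ω, M 0 = A ∧
      ∀ k, M (k + 1) = ((M k).subgroupOf A).map (H.fHom hxS) :=
    ⟨fun k => Nat.rec A (fun _ X => (X.subgroupOf A).map (H.fHom hxS)) k, rfl, fun _ => rfl⟩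
  have hMA : ∀ k, M k ≤ A := by
    intro k
    cases k with
    | zero => rw [hM0]
    | succ k => rw [hMs]; rintro _ ⟨a, -, rfl⟩; exact H.comm_mem hxS a.2
  have hM1 : ∀ k, M (k + 1) ≤ ⁅S, S⁆ := by
    intro k
    rw [hMs]
    rintro _ ⟨a, -, rfl⟩
    exact Subgroup.commutator_mem_commutator (H.le a.2) hxS
  have hML : ∀ k, M k ≤ Subgroup.lowerCentralSeries S k := by
    intro k
    induction k with
    | zero => rw [hM0]; exact H.le
    | succ k ih =>
      rw [hMs]
      rintro _ ⟨a, ha, rfl⟩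
      rw [Subgroup.lowerCentralSeries_succ]
      exact Subgroup.commutator_mem_commutator (ih (Subgroup.mem_subgroupOf.1 ha)) hxS
  -- one step costs at most a factor `p`
  have hstep : ∀ k, (cen S).relIndex (M k) = Nat.card ↥(M (k + 1)) := by
    intro k
    let g : ↥(M k) →* Ω := (H.fHom hxS).comp (Subgroup.inclusion (hMA k))
    have hker : g.ker = (cen S).subgroupOf (M k) := by
      ext a
      rw [MonoidHom.mem_ker, Subgroup.mem_subgroupOf]
      exact H.comm_eq_one_iff hxS hxA (hMA k a.2)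
    have hgr : g.range = M (k + 1) := by
      rw [hMs]
      apply le_antisymm
      · rintro _ ⟨a, rfl⟩
        exact ⟨Subgroup.inclusion (hMA k) a, Subgroup.mem_subgroupOf.2 a.2, rfl⟩
      · rintro _ ⟨a, ha, rfl⟩
        exact ⟨⟨(a : Ω), Subgroup.mem_subgroupOf.1 ha⟩, rfl⟩
    rw [← hgr, ← Subgroup.index_ker, hker]
    rfl
  have hbound : ∀ k, p ^ (m - 1) ≤ p ^ k * Nat.card ↥(M (k + 1)) := by
    intro k
    induction k with
    | zero => rw [pow_zero, one_mul, ← hstep, hM0, hcard]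
    | succ k ih =>
      haveI : Finite ↥(cen S ⊓ ⁅S, S⁆) := finite_sub (inf_le_left.trans inf_le_left)
      have h1 : Nat.card ↥(M (k + 1)) ≤ p * (cen S).relIndex (M (k + 1)) := by
        have h := Subgroup.relIndex_mul_relIndex ⊥ (cen S ⊓ M (k + 1)) (M (k + 1)) bot_le inf_le_right
        rw [Subgroup.relIndex_bot_left, Subgroup.relIndex_bot_left, Subgroup.inf_relIndex_right] at h
        rw [← h]
        refine Nat.mul_le_mul_right _ ?_
        rw [← H.card_cen_inf_derived hxS hxA hle hrel]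
        exact Subgroup.card_le_of_le (inf_le_inf_left _ (hM1 k))
      rw [← hstep (k + 1)]
      calc p ^ (m - 1) ≤ p ^ k * Nat.card ↥(M (k + 1)) := ih
        _ ≤ p ^ k * (p * (cen S).relIndex (M (k + 1))) := Nat.mul_le_mul_left _ h1
        _ = p ^ (k + 1) * (cen S).relIndex (M (k + 1)) := by ring
  intro hcon
  obtain ⟨j, hj⟩ : ∃ j, m - 2 = j + 1 := ⟨m - 3, by omega⟩
  haveI : Finite ↥(cen S ⊓ ⁅S, S⁆) := finite_sub (inf_le_left.trans inf_le_left)
  have h1 : Nat.card ↥(M (j + 1)) ≤ p := by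
    rw [← H.card_cen_inf_derived hxS hxA hle hrel]
    exact Subgroup.card_le_of_le (le_inf ((hML _).trans (hj ▸ hcon)) (hM1 j))
  have h2 : p ^ (m - 1) ≤ p ^ (j + 1) := by
    rw [pow_succ]
    exact (hbound j).trans (Nat.mul_le_mul_left _ h1)
  have := (Nat.pow_le_pow_iff_right hp.out.one_lt).1 h2
  omega

end Setup

end Cfsg.Agent.Lib.AbelIndexP
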