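import Cfsg.Agent.Lib.AbelIndexP.Abelian
import Cfsg.Agent.Lib.FusionSystem.NormalFacts

/-!
Core-free fusion systems over a `p`-group with an abelian subgroup of index `p` which is not essential.
-/

set_option autoImplicit false
set_option linter.unusedSectionVars false
set_option linter.style.haveILetI false

namespace Cfsg.Agent.Lib.AbelIndexP

open Cfsg Cfsg.FusionSystem
open scoped commutatorElement
open Cfsg.Agent.Lib.FS (finite_sub isConj_refl mem_autInducedBy autInducedBy_le_autGroup le_normalizerIn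
  fullyAutomized_of_fullyNormalized receptive_of_fullyNormalized mem_autGroup)
open Cfsg.Agent.Lib.FusionP3.Induction (lt_normalizerIn preimageAut exists_extend_preimage)

variable {Ω : Type*} [Group Ω] {S A : Subgroup Ω} {p : ℕ} [hp : Fact p.Prime] [Finite S]
  {F : FusionSystem S} {P : Subgroup Ω}

/-- The automorphism of `S` agrees on the centre with the map. -/
def ExtCen (F : FusionSystem S) (P : Subgroup Ω) (φ : P →* Ω) : Prop :=
  cen S ≤ P → ¬ IsMulCommutative P →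
    ∃ γ ∈ F.autGroup S, ∀ z : P, ∀ hz : (z : Ω) ∈ cen S, φ z = ((γ ⟨z, hz.1⟩ : S) : Ω)

theorem cen_aut {γ : MulAut S} {z : S} (hz : (z : Ω) ∈ cen S) : ((γ z : S) : Ω) ∈ cen S := by
  refine ⟨(γ z).2, fun s hs => ?_⟩
  obtain ⟨s', hs'⟩ := γ.surjective ⟨s, hs⟩
  have h1 : s' * z = z * s' := Subtype.ext (hz.2 s' s'.2)
  have h2 := congrArg γ h1
  rw [map_mul, map_mul, hs'] at h2
  exact congrArg Subtype.val h2

theorem derived_aut {γ : MulAut S} {z : S} (hz : (z : Ω) ∈ ⁅S, S⁆) : ((γ z : S) : Ω) ∈ ⁅S, S⁆ := by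
  rw [← Subgroup.map_subtype_commutator] at hz ⊢
  obtain ⟨w, hw, hwz⟩ := hz
  refine ⟨γ z, ?_, rfl⟩
  have : w = z := Subtype.ext hwz
  subst this
  have h := Subgroup.characteristic_iff_map_eq.1 (inferInstance : (commutator S).Characteristic) γ
  exact h ▸ Subgroup.mem_map_of_mem _ hw

theorem not_comm_mono {Q : Subgroup Ω} (h : P ≤ Q) (hP : ¬ IsMulCommutative P) : ¬ IsMulCommutative Q :=
  fun hQ => hP ⟨⟨fun a b => Subtype.ext (show (a : Ω) * b = b * a from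
    congrArg Subtype.val (hQ.is_comm.comm (⟨a, h a.2⟩ : Q) ⟨b, h b.2⟩))⟩⟩

namespace Setup

variable (H : Setup S A p)
include H

theorem extCen_all (hF : F.IsSaturated p) (hAe : ¬ F.IsEssential p A) :
    ∀ (P : Subgroup Ω) (φ : P →* Ω), φ ∈ F.Hom P → ExtCen F P φ := by
  refine FusionP3.Induction.hom_induction H.hS hF ?_ ?_ ?_
  · intro P Q φ ψ χ hφ hψ h hχ h1 h2 hZ hna
    obtain ⟨γ, hγ, he⟩ := h1 hZ hna
    haveI := finite_sub (FS.src_le hφ)
    haveI : Finite (cen S) := finite_sub inf_le_left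
    have hZQ : cen S ≤ Q := by
      intro z hz
      let q : P := ⟨((γ⁻¹ ⟨z, hz.1⟩ : S) : Ω), hZ (cen_aut (γ := γ⁻¹) (z := ⟨z, hz.1⟩) hz)⟩
      have h3 := he q (cen_aut (γ := γ⁻¹) (z := ⟨z, hz.1⟩) hz)
      rw [show (⟨(q : Ω), _⟩ : S) = γ⁻¹ ⟨z, hz.1⟩ from Subtype.ext rfl, MulAut.apply_inv_self] at h3
      exact (show φ q = z from h3) ▸ h q
    have hnQ : ¬ IsMulCommutative Q := by
      refine fun hQ => hna ⟨⟨fun a b => F.injective_of_mem hφ ?_⟩⟩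
      rw [map_mul, map_mul]
      exact congrArg Subtype.val (hQ.is_comm.comm (⟨φ a, h a⟩ : Q) ⟨φ b, h b⟩)
    obtain ⟨γ', hγ', he'⟩ := h2 hZQ hnQ
    refine ⟨γ' * γ, mul_mem hγ' hγ, fun z hz => ?_⟩
    have hc : ((γ ⟨z, hz.1⟩ : S) : Ω) ∈ cen S := cen_aut hz
    rw [hχ z, he' ⟨φ z, h z⟩ (show φ z ∈ cen S by rw [he z hz]; exact hc), MulAut.mul_apply]
    congr 2
    exact Subtype.ext (he z hz)
  · intro P Q φ ψ h hψ he h1 hZ hna
    obtain ⟨γ, hγ, hg⟩ := h1 (hZ.trans h) (not_comm_mono h hna)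
    exact ⟨γ, hγ, fun z hz => (he z).trans (hg ⟨z, h z.2⟩ hz)⟩
  intro P hPn hPc hPr α hα big hZ hna
  rcases eq_or_lt_of_le hPn.1 with hPS | hPS
  · subst hPS
    exact ⟨α, hα, fun z hz => rfl⟩
  haveI := finite_sub hPn.1
  have hbig : ∀ (Q : Subgroup Ω) (hPQ : P < Q) (φ : Q →* Ω), φ ∈ F.Hom Q →
      ∃ γ ∈ F.autGroup S, ∀ z : P, ∀ hz : (z : Ω) ∈ cen S,
        φ ⟨z, hPQ.le z.2⟩ = ((γ ⟨z, hz.1⟩ : S) : Ω) := by
    intro Q hPQ φ hφ
    haveI := finite_sub (FS.src_le hφ)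
    have hc : Nat.card P < Nat.card Q :=
      lt_of_not_ge fun h => hPQ.ne (Subgroup.eq_of_le_of_card_ge hPQ.le h)
    obtain ⟨γ, hγ, hg⟩ := big Q hc φ hφ (hZ.trans hPQ.le) (not_comm_mono hPQ.le hna)
    exact ⟨γ, hγ, fun z hz => hg ⟨z, hPQ.le z.2⟩ hz⟩
  rcases FS.extendable_closure H.hS hF hPS hPn with ⟨-, hH⟩ | ⟨hess, -⟩
  · rw [← hH] at hα
    refine Subgroup.closure_induction (p := fun β _ => ∃ γ ∈ F.autGroup S, ∀ z : P, ∀ hz : (z : Ω) ∈ cen S,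
      ((β z : P) : Ω) = ((γ ⟨z, hz.1⟩ : S) : Ω)) ?_ ⟨1, one_mem _, fun z hz => rfl⟩ ?_ ?_ hα
    · rintro β ⟨Q, hPQ, φ, hφ, he⟩
      obtain ⟨γ, hγ, hg⟩ := hbig Q hPQ φ hφ
      exact ⟨γ, hγ, fun z hz => (he z).symm.trans (hg z hz)⟩
    · rintro a b - - ⟨γa, ha, ea⟩ ⟨γb, hb, eb⟩
      refine ⟨γa * γb, mul_mem ha hb, fun z hz => ?_⟩
      rw [MulAut.mul_apply, MulAut.mul_apply, ea (b z) (eb z hz ▸ cen_aut hz)]
      congr 2
      exact Subtype.ext (eb z hz)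
    · rintro a - ⟨γ, hg, ea⟩
      refine ⟨γ⁻¹, inv_mem hg, fun z hz => ?_⟩
      have hc := cen_aut (γ := γ⁻¹) (z := ⟨z, hz.1⟩) hz
      have h1 : a ⟨_, hZ hc⟩ = z := by
        apply Subtype.ext
        rw [ea ⟨_, hZ hc⟩ hc]
        show ((γ (γ⁻¹ ⟨z, hz.1⟩) : S) : Ω) = z
        rw [MulAut.apply_inv_self]
      conv_lhs => rw [← h1, MulAut.inv_apply_self]
  · obtain rfl | ⟨x, hx, hxA⟩ := H.eq_or_exists hess
    · exact absurd hess hAe
    have hB : P ⊓ A ≠ cen S := fun h =>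
      hna ⟨⟨H.abelian_comm hPn.1 hx hxA h⟩⟩
    obtain ⟨-, -, hcenP, -⟩ := H.nonabelian_case hF hess hx hxA hB
    have hinv : ∀ β : MulAut P, ∀ z : P, (z : Ω) ∈ cen S → ((β z : P) : Ω) ∈ cen S := by
      intro β z hz
      refine hcenP _ (β z).2 fun w hw => ?_
      obtain ⟨w', hw'⟩ := β.surjective ⟨w, hw⟩
      have h1 : w' * z = z * w' := Subtype.ext (hz.2 w' (hPn.1 w'.2))
      have h2 := congrArg β h1
      rw [map_mul, map_mul, hw'] at h2
      exact congrArg Subtype.val h2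
    let Y : Subgroup (F.autGroup P) :=
      { carrier := {β | ∀ z : P, (z : Ω) ∈ cen S → (β : MulAut P) z = z}
        one_mem' := fun z _ => rfl
        mul_mem' := fun {a b} ha hb z hz => by
          rw [Subgroup.coe_mul, MulAut.mul_apply, hb z hz, ha z hz]
        inv_mem' := fun {a} ha z hz => by
          rw [Subgroup.coe_inv]
          conv_lhs => rw [← ha z hz, MulAut.inv_apply_self] }
    haveI : Y.Normal := by
      refine ⟨fun n hn g z hz => ?_⟩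
      rw [Subgroup.coe_mul, Subgroup.coe_mul, Subgroup.coe_inv, MulAut.mul_apply, MulAut.mul_apply,
        hn _ (hinv _ z hz), MulAut.apply_inv_self]
    obtain ⟨R, hR⟩ := (fullyAutomized_of_fullyNormalized H.hS hF hPn).2
    have hRY : (R : Subgroup (F.autGroup P)) ≤ Y := by
      intro r hr z hz
      rw [hR, Subgroup.mem_subgroupOf] at hr
      obtain ⟨g, hg, hge⟩ := mem_autInducedBy.1 hr
      apply Subtype.ext
      rw [hge, hz.2 g hg, mul_inv_cancel_right]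
    have htop := Sylow.normalizer_sup_eq_top' (N := Y) R hRY
    obtain ⟨n, hn, y, hy, hny⟩ := Subgroup.mem_sup_of_normal_right.1
      (htop.ge (Subgroup.mem_top (⟨α, hα⟩ : F.autGroup P)))
    have hnR : ∀ w ∈ autInducedBy S P, (n : MulAut P) * w * (n : MulAut P)⁻¹ ∈ autInducedBy S P := by
      intro w hw
      have hwR : (⟨w, autInducedBy_le_autGroup F hPn.1 hw⟩ : F.autGroup P) ∈ (R : Subgroup (F.autGroup P)) := by
        rw [hR]; exact Subgroup.mem_subgroupOf.2 hw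
      have h1 := (Subgroup.mem_normalizer_iff.1 hn _).1 hwR
      rw [hR, Subgroup.mem_subgroupOf] at h1
      exact h1
    obtain ⟨ψ, hψ, he⟩ := exists_extend_preimage (receptive_of_fullyNormalized H.hS hF hPn)
      (le_refl (autInducedBy S P)) n.2 hnR
    have hlt : P < preimageAut S P (autInducedBy S P) :=
      (lt_normalizerIn H.hS hPS).trans_le fun g hg => ⟨hg, _, cj_mem_induced hg, fun _ => rfl⟩
    obtain ⟨γ, hγ, hg⟩ := hbig _ hlt ψ hψ
    refine ⟨γ, hγ, fun z hz => ?_⟩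
    show ((α z : P) : Ω) = _
    rw [← hg z hz, he z z.2]
    have : α z = (n : MulAut P) z := by
      rw [show α = (n : MulAut P) * (y : MulAut P) from (congrArg Subtype.val hny).symm, MulAut.mul_apply,
        hy z hz]
    rw [this]

/-- The intersection of the centre with the derived subgroup. -/
theorem card_line (hF : F.IsSaturated p) (hP : F.IsEssential p P) {x : Ω} (hx : x ∈ P) (hxA : x ∉ A)
    (hB : P ⊓ A = cen S) : Nat.card ↥(cen S ⊓ ⁅S, S⁆) = p := by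
  have hPS : P ≤ S := hP.2.1.1
  have hxS := hPS hx
  obtain ⟨h, hh, hmove⟩ := H.exists_moving hF hP hx hxA hB
  obtain ⟨hrel, -⟩ := H.abelian_key hF hP hx hxA hB hh hmove
  set T := normalizerIn S P ⊓ A
  let f : T →* Ω := (H.fHom hxS).comp (Subgroup.inclusion (inf_le_right : T ≤ A))
  have hker : f.ker = (cen S).subgroupOf T := by
    ext a
    rw [MonoidHom.mem_ker, Subgroup.mem_subgroupOf]
    exact H.comm_eq_one_iff hxS hxA a.2.2
  have hrange : f.range = cen S ⊓ ⁅S, S⁆ := by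
    apply le_antisymm
    · rintro _ ⟨a, rfl⟩
      exact ⟨hB.le (H.comm_mem_inter hPS a.2.2 a.2.1 hx),
        Subgroup.commutator_mem_commutator (H.le a.2.2) hxS⟩
    · rintro z ⟨hz, hzD⟩
      obtain ⟨a, ha, rfl⟩ := (H.mem_R hxS).1 (H.commutator_le hxS hxA hzD)
      exact ⟨⟨a, H.normalizes_of_comm hP hx hxA ha hz, ha⟩, rfl⟩
  rw [← hrange, ← Subgroup.index_ker, hker, ← hB]
  exact hrel

end Setup

/-- An automorphism of the system inverting `Z(S) ∩ [S,S]` and trivial on the centre modulo it. -/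
def Refl (F : FusionSystem S) (γ : MulAut S) : Prop :=
  γ ∈ F.autGroup S ∧ (∀ z : S, (z : Ω) ∈ cen S → (z : Ω) ∈ ⁅S, S⁆ → γ z = z⁻¹) ∧
    ∀ z : S, (z : Ω) ∈ cen S → ((γ z * z⁻¹ : S) : Ω) ∈ ⁅S, S⁆

theorem fixes_of_trivial (hS : IsPGroup p S) (hF : F.IsSaturated p) {γ : MulAut S} (hγ : γ ∈ F.autGroup S)
    (hL : Nat.card ↥(cen S ⊓ ⁅S, S⁆) = p)
    (h1 : ∀ z : S, (z : Ω) ∈ cen S → (z : Ω) ∈ ⁅S, S⁆ → γ z = z)
    (h2 : ∀ z : S, (z : Ω) ∈ cen S → ((γ z * z⁻¹ : S) : Ω) ∈ ⁅S, S⁆) :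
    ∀ z : S, (z : Ω) ∈ cen S → γ z = z := by
  let K : Subgroup (F.autGroup S) :=
    { carrier := {β | ∀ z : S, (z : Ω) ∈ cen S → (β : MulAut S) z = z}
      one_mem' := fun z _ => rfl
      mul_mem' := fun {a b} ha hb z hz => by rw [Subgroup.coe_mul, MulAut.mul_apply, hb z hz, ha z hz]
      inv_mem' := fun {a} ha z hz => by
        rw [Subgroup.coe_inv]
        conv_lhs => rw [← ha z hz, MulAut.inv_apply_self] }
  let g : F.autGroup S := ⟨γ, hγ⟩
  have hgp : g ^ p ∈ K := by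
    intro z hz
    have hd : ((γ z * z⁻¹ : S) : Ω) ∈ cen S := (cen S).mul_mem (cen_aut hz) ((cen S).inv_mem hz)
    have hk : ∀ n : ℕ, (γ ^ n) z = (γ z * z⁻¹) ^ n * z := by
      intro n
      induction n with
      | zero => simp
      | succ n ih =>
        rw [pow_succ', MulAut.mul_apply, ih, map_mul, map_pow, h1 _ hd (h2 z hz), pow_succ]
        group
    rw [Subgroup.coe_pow, hk]
    have h3 : (⟨_, hd, h2 z hz⟩ : ↥(cen S ⊓ ⁅S, S⁆)) ^ p = 1 := by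
      conv_lhs => rw [← hL]
      exact pow_card_eq_one'
    have h4 : (γ z * z⁻¹) ^ p = 1 := Subtype.ext (by simpa using congrArg Subtype.val h3)
    rw [h4, one_mul]
  have hKn : K.Normal := by
    refine ⟨fun n hn b z hz => ?_⟩
    rw [Subgroup.coe_mul, Subgroup.coe_mul, Subgroup.coe_inv, MulAut.mul_apply, MulAut.mul_apply,
      hn _ (cen_aut hz), MulAut.apply_inv_self]
  haveI := hKn
  obtain ⟨m, hm, k, hk⟩ := FS.exists_pow_pElement (p := p) g
  have hgm : g ^ m ∈ K := by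
    obtain ⟨R, hR⟩ := (FS.isFullyAutomized_base hS hF).2
    obtain ⟨Q, hQ⟩ := (IsPGroup.of_card (n := k) (by rw [Nat.card_zpowers, hk]) :
      IsPGroup p (Subgroup.zpowers (g ^ m))).exists_le_sylow
    obtain ⟨b, hb⟩ := MulAction.exists_smul_eq (F.autGroup S) R Q
    have h3 : g ^ m ∈ ((b • R : Sylow p (F.autGroup S)) : Subgroup (F.autGroup S)) :=
      hb ▸ hQ (Subgroup.mem_zpowers _)
    obtain ⟨r, hr, hre⟩ := h3
    rw [← hre]
    refine hKn.conj_mem r (fun z hz => ?_) b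
    have hr' : r ∈ (R : Subgroup (F.autGroup S)) := hr
    rw [hR, Subgroup.mem_subgroupOf] at hr'
    obtain ⟨s, hs, hse⟩ := mem_autInducedBy.1 hr'
    apply Subtype.ext
    rw [hse, hz.2 s hs, mul_inv_cancel_right]
  have hco : Nat.Coprime p m := hp.out.coprime_iff_not_dvd.2 hm
  have hgK : g ∈ K := by
    have e : g = (g ^ p) ^ (Nat.gcdA p m) * (g ^ m) ^ (Nat.gcdB p m) := by
      rw [← zpow_natCast, ← zpow_natCast g m, ← zpow_mul, ← zpow_mul, ← zpow_add, ← Nat.gcd_eq_gcd_ab,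
        hco.gcd_eq_one, Nat.cast_one, zpow_one]
    rw [e]
    exact K.mul_mem (K.zpow_mem hgp _) (K.zpow_mem hgm _)
  exact hgK

theorem Refl.eq_on_cen (hS : IsPGroup p S) (hF : F.IsSaturated p) (hL : Nat.card ↥(cen S ⊓ ⁅S, S⁆) = p)
    {γ γ' : MulAut S} (h : Refl F γ) (h' : Refl F γ') :
    ∀ z : S, (z : Ω) ∈ cen S → γ z = γ' z := by
  have key : ∀ {a b : MulAut S}, Refl F a → Refl F b → ∀ z : S, (z : Ω) ∈ cen S → a (b z) = z := by
    intro a b ha hb z hz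
    refine fixes_of_trivial hS hF (mul_mem ha.1 hb.1) hL (fun w hw hw' => ?_) (fun w hw => ?_) z hz
    · rw [MulAut.mul_apply, hb.2.1 w hw hw', map_inv a, ha.2.1 w hw hw', inv_inv]
    · have e : (a * b) w * w⁻¹ = a (b w * w⁻¹) * (a w * w⁻¹) := by
        rw [MulAut.mul_apply, map_mul, map_inv]; group
      rw [e]
      exact ⁅S, S⁆.mul_mem (derived_aut (hb.2.2 w hw)) (ha.2.2 w hw)
  intro z hz
  have h1 := key h' h z hz
  have h2 := key h' h' z hz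
  exact h'.1 |> fun _ => γ'.injective (h1.trans h2.symm)

theorem Refl.conj (hS : IsPGroup p S) (hF : F.IsSaturated p) (hL : Nat.card ↥(cen S ⊓ ⁅S, S⁆) = p)
    {γ δ : MulAut S} (h : Refl F γ) (hδ : δ ∈ F.autGroup S) {z : S} (hz : (z : Ω) ∈ cen S) (hfix : γ z = z) :
    γ (δ z) = δ z := by
  have h' : Refl F (δ⁻¹ * γ * δ) := by
    refine ⟨mul_mem (mul_mem (inv_mem hδ) h.1) hδ, fun w hw hw' => ?_, fun w hw => ?_⟩
    · rw [MulAut.mul_apply, MulAut.mul_apply, h.2.1 _ (cen_aut hw) (derived_aut hw'), map_inv δ⁻¹,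
        MulAut.inv_apply_self]
    · have e : (δ⁻¹ * γ * δ) w * w⁻¹ = δ⁻¹ (γ (δ w) * (δ w)⁻¹) := by
        rw [map_mul, map_inv δ⁻¹, MulAut.inv_apply_self]; rfl
      rw [e]
      exact derived_aut (h.2.2 _ (cen_aut hw))
  have h1 := Refl.eq_on_cen hS hF hL h' h z hz
  rw [hfix, MulAut.mul_apply, MulAut.mul_apply] at h1
  have h2 := congrArg δ h1
  rwa [MulAut.apply_inv_self] at h2

namespace Setup

variable (H : Setup S A p)
include H

/-- The reflection attached to an automorphism of an abelian essential subgroup moving the centre. -/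
theorem exists_refl (hF : F.IsSaturated p) (hp2 : p ≠ 2) (hAe : ¬ F.IsEssential p A) (hP : F.IsEssential p P)
    {x : Ω} (hx : x ∈ P) (hxA : x ∉ A) (hB : P ⊓ A = cen S) {h : MulAut P} (hh : h ∈ F.autGroup P)
    (hmove : ∃ z : P, (z : Ω) ∈ cen S ∧ ((h z : P) : Ω) ∉ A) :
    ∃ γ : MulAut S, Refl F γ ∧ (∀ z : P, ∀ hz : (z : Ω) ∈ cen S,
      γ ⟨z, hz.1⟩ = ⟨z, hz.1⟩ ↔ ((h⁻¹ z : P) : Ω) ∈ cen S) := by
  have hPS : P ≤ S := hP.2.1.1
  haveI := finite_sub hPS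
  have hxS := hPS hx
  have hZP := H.cen_le_essential hP
  obtain ⟨-, w₁, hw₁, hw₁D, hw₁h, hgen, t, ht, htn, htW, htw⟩ := H.abelian_key hF hP hx hxA hB hh hmove
  have hPlt : P < S := by
    obtain ⟨M, -, -, -, hne⟩ := FusionEssential.exists_data H.hS hF hP
    exact lt_of_le_of_ne hPS hne
  set Q := preimageAut S P (autInducedBy S P) with hQdef
  obtain ⟨ψ, hψ, he⟩ : ∃ ψ ∈ F.Hom Q, ∀ (x : Ω) (hx : x ∈ P) (hxR : x ∈ Q),
      ψ ⟨x, hxR⟩ = ((t ⟨x, hx⟩ : P) : Ω) :=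
    exists_extend_preimage (receptive_of_fullyNormalized H.hS hF hP.2.1)
      (le_refl (autInducedBy S P)) ht htn
  have hlt : P < Q :=
    (lt_normalizerIn H.hS hPlt).trans_le fun g hg => ⟨hg, _, cj_mem_induced hg, fun _ => rfl⟩
  have hQS : Q ≤ S := FS.src_le hψ
  have hnQ : ¬ IsMulCommutative Q := by
    intro hQc
    obtain ⟨g, hg, hgP⟩ := SetLike.exists_of_lt hlt
    obtain ⟨a, ha, i, rfl⟩ := H.exists_decomp_in hQS (hlt.le hx) hxA hg
    refine hgP (P.mul_mem ?_ (P.zpow_mem hx i))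
    exact hZP (H.cen_of_commute hxS hxA ha.2
      (congrArg Subtype.val (hQc.is_comm.comm (⟨x, hlt.le hx⟩ : Q) ⟨a, ha.1⟩)))
  obtain ⟨γ, hγ, hg⟩ := H.extCen_all hF hAe Q ψ hψ (hZP.trans hlt.le) hnQ
  have hγt : ∀ z : P, ∀ hz : (z : Ω) ∈ cen S, ((γ ⟨z, hz.1⟩ : S) : Ω) = t z := fun z hz =>
    (hg ⟨z, hlt.le z.2⟩ hz).symm.trans (he z z.2 _)
  have hL := H.card_line hF hP hx hxA hB
  have hw₁ne : w₁ ≠ 1 := by
    rintro rfl
    exact hw₁h (by rw [map_one]; exact (cen S).one_mem)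
  -- powers of `w₁` exhaust the line
  have hline : ∀ z : P, (z : Ω) ∈ cen S → (z : Ω) ∈ ⁅S, S⁆ → ∃ i : ℤ, z = w₁ ^ i := by
    intro z hz hzD
    obtain ⟨i, hi⟩ := mem_zpowers_of_prime_card hL (g := (⟨w₁, hw₁, hw₁D⟩ : ↥(cen S ⊓ ⁅S, S⁆)))
      (fun hc => hw₁ne (Subtype.ext (by simpa using congrArg Subtype.val hc))) (g' := ⟨z, hz, hzD⟩)
    exact ⟨i, Subtype.ext (by simpa using (congrArg Subtype.val hi).symm)⟩
  have hdiv : ∀ z : P, (z : Ω) ∈ cen S → ∃ i : ℤ, t z = z * (w₁ ^ i)⁻¹ ^ 2 ∧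
      ((h⁻¹ (z * w₁ ^ (-i)) : P) : Ω) ∈ cen S := by
    intro z hz
    obtain ⟨i, hi⟩ := hgen z hz
    refine ⟨i, ?_, hi⟩
    have hfix := htW (z * w₁ ^ (-i)) (by simpa using (cen S).mul_mem hz ((cen S).zpow_mem hw₁ (-i))) hi
    rw [map_mul, map_zpow, htw, inv_zpow, zpow_neg, inv_inv, ← eq_mul_inv_iff_mul_eq] at hfix
    rw [hfix, pow_two, mul_assoc]
  refine ⟨γ, ⟨hγ, fun z hz hzD => ?_, fun z hz => ?_⟩, fun z hz => ?_⟩
  · obtain ⟨i, hi⟩ := hline ⟨z, hZP hz⟩ hz hzD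
    apply Subtype.ext
    show ((γ ⟨(z : Ω), hz.1⟩ : S) : Ω) = _
    rw [hγt ⟨z, hZP hz⟩ hz, hi, map_zpow, htw, inv_zpow, ← hi]
    rfl
  · obtain ⟨i, hi, -⟩ := hdiv ⟨z, hZP hz⟩ hz
    show ((γ ⟨(z : Ω), hz.1⟩ : S) : Ω) * (z : Ω)⁻¹ ∈ ⁅S, S⁆
    rw [hγt ⟨z, hZP hz⟩ hz, hi]
    have hcz : Commute (z : Ω) ((((w₁ ^ i : P) : Ω))⁻¹ ^ 2) :=
      (hz.2 _ (S.pow_mem (S.inv_mem (hPS (w₁ ^ i).2)) 2)).symm
    simp only [Subgroup.coe_mul, SubgroupClass.coe_pow, Subgroup.coe_inv]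
    rw [hcz.eq, mul_inv_cancel_right]
    exact ⁅S, S⁆.pow_mem (⁅S, S⁆.inv_mem (by simpa using ⁅S, S⁆.zpow_mem hw₁D i)) 2
  · constructor
    · intro hfix
      obtain ⟨i, hi, hiW⟩ := hdiv z hz
      have h1 : t z = z := Subtype.ext ((hγt z hz).symm.trans (congrArg Subtype.val hfix))
      rw [h1, left_eq_mul, inv_pow, inv_eq_one] at hi
      have h2 : w₁ ^ i = 1 := by
        have hwp : (w₁ ^ i) ^ p = 1 := by
          apply Subtype.ext
          have hmem : ((w₁ ^ i : P) : Ω) ∈ cen S ⊓ ⁅S, S⁆ := by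
            simpa using (cen S ⊓ ⁅S, S⁆).zpow_mem ⟨hw₁, hw₁D⟩ i
          have h3 : (⟨_, hmem⟩ : ↥(cen S ⊓ ⁅S, S⁆)) ^ p = 1 := by
            conv_lhs => rw [← hL]
            exact pow_card_eq_one'
          simpa using congrArg Subtype.val h3
        have hco : Nat.Coprime p 2 := (Nat.coprime_primes hp.out Nat.prime_two).2 hp2
        have h4 : (w₁ ^ i) ^ Nat.gcd p 2 = 1 := pow_gcd_eq_one.mpr ⟨hwp, hi⟩
        rwa [hco.gcd_eq_one, pow_one] at h4
      rw [zpow_neg, h2, inv_one, mul_one] at hiW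
      exact hiW
    · intro hW
      exact Subtype.ext ((hγt z hz).trans (congrArg Subtype.val (htW z hz hW)))

theorem isNormal_of_mapsTo (hF : F.IsSaturated p) {Q : Subgroup Ω} (hQS : Q ≤ S)
    (h : ∀ P : Subgroup Ω, (P = S ∨ F.IsEssential p P) →
      Q ≤ P ∧ ∀ α ∈ F.autGroup P, ∀ z : P, (z : Ω) ∈ Q → ((α z : P) : Ω) ∈ Q) : F.IsNormal Q := by
  refine (FS.isNormal_iff_essential H.hS hF).2 fun P hP => ⟨(h P hP).1, fun α hα => ?_⟩
  ext y
  constructor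
  · rintro ⟨z, hz, rfl⟩
    exact (h P hP).2 α hα z hz
  · intro hy
    exact ⟨α⁻¹ y, (h P hP).2 α⁻¹ (inv_mem hα) y hy, MulAut.apply_inv_self _ α y⟩

theorem cen_ne_bot : cen S ≠ ⊥ := by
  intro h
  have hne : S ≠ ⊥ := by
    rintro rfl
    exact H.na ⟨⟨fun a b => Subsingleton.elim _ _⟩⟩
  haveI : Nontrivial S := (Subgroup.nontrivial_iff_ne_bot _).2 hne
  haveI := H.hS.center_nontrivial
  obtain ⟨z, hz⟩ := exists_ne (1 : Subgroup.center S)
  have h1 : ((z : S) : Ω) ∈ cen S :=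
    ⟨(z : S).2, fun s hs => congrArg Subtype.val (Subgroup.mem_center_iff.1 z.2 ⟨s, hs⟩)⟩
  rw [h, Subgroup.mem_bot] at h1
  exact hz (Subtype.ext (Subtype.ext h1))

/-- Some essential subgroup is abelian. -/
theorem exists_abelian_essential (hF : F.IsSaturated p) (hAe : ¬ F.IsEssential p A) (hcore : F.core = ⊥) :
    ∃ P : Subgroup Ω, F.IsEssential p P ∧ ∃ x ∈ P, x ∉ A ∧ P ⊓ A = cen S := by
  by_contra hall
  push Not at hall
  apply H.cen_ne_bot
  rw [eq_bot_iff, ← hcore]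
  refine FS.le_core_of_isNormal (H.isNormal_of_mapsTo hF inf_le_left fun P hP => ?_)
  rcases hP with rfl | hP
  · exact ⟨inf_le_left, fun α _ z hz => cen_aut hz⟩
  obtain rfl | ⟨x, hx, hxA⟩ := H.eq_or_exists hP
  · exact absurd hP hAe
  obtain ⟨-, -, hcenP, -⟩ := H.nonabelian_case hF hP hx hxA (hall P hP x hx hxA)
  refine ⟨H.cen_le_essential hP, fun α _ z hz => hcenP _ (α z).2 fun w hw => ?_⟩
  obtain ⟨w', hw'⟩ := α.surjective ⟨w, hw⟩
  have h1 : w' * z = z * w' := Subtype.ext (hz.2 w' (hP.2.1.1 w'.2))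
  have h2 := congrArg α h1
  rw [map_mul, map_mul, hw'] at h2
  exact congrArg Subtype.val h2

/-- The centre has order `p`, and lies in the derived subgroup. -/
theorem cen_small (hF : F.IsSaturated p) (hp2 : p ≠ 2) (hAe : ¬ F.IsEssential p A) (hcore : F.core = ⊥) :
    cen S ≤ ⁅S, S⁆ ∧ Nat.card (cen S) = p := by
  obtain ⟨P₀, hP₀, x₀, hx₀, hx₀A, hB₀⟩ := H.exists_abelian_essential hF hAe hcore
  obtain ⟨h₀, hh₀, hmove₀⟩ := H.exists_moving hF hP₀ hx₀ hx₀A hB₀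
  have hL := H.card_line hF hP₀ hx₀ hx₀A hB₀
  obtain ⟨γ, hγ, hW₀⟩ := H.exists_refl hF hp2 hAe hP₀ hx₀ hx₀A hB₀ hh₀ hmove₀
  let W : Subgroup Ω :=
    { carrier := {z | ∃ hz : z ∈ cen S, γ ⟨z, hz.1⟩ = ⟨z, hz.1⟩}
      one_mem' := ⟨(cen S).one_mem, map_one γ⟩
      mul_mem' := fun {a b} ⟨ha, ea⟩ ⟨hb, eb⟩ => ⟨(cen S).mul_mem ha hb,
        (map_mul γ (⟨a, ha.1⟩ : S) ⟨b, hb.1⟩).trans (by rw [ea, eb]; rfl)⟩
      inv_mem' := fun {a} ⟨ha, ea⟩ => ⟨(cen S).inv_mem ha,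
        (map_inv γ (⟨a, ha.1⟩ : S)).trans (by rw [ea]; rfl)⟩ }
  have hWn : F.IsNormal W := by
    refine H.isNormal_of_mapsTo hF (fun z hz => hz.1.1) fun P hP => ?_
    rcases hP with rfl | hP
    · exact ⟨fun z hz => hz.1.1, fun α hα z ⟨hz, ez⟩ =>
        ⟨cen_aut hz, Refl.conj H.hS hF hL hγ hα hz ez⟩⟩
    have hZP := H.cen_le_essential hP
    refine ⟨fun z hz => hZP hz.1, ?_⟩
    obtain rfl | ⟨x, hx, hxA⟩ := H.eq_or_exists hP
    · exact absurd hP hAe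
    haveI := finite_sub hP.2.1.1
    by_cases hB : P ⊓ A = cen S
    · -- characterisation of `W` by any automorphism moving the centre
      have hchar : ∀ h ∈ F.autGroup P, (∃ z : P, (z : Ω) ∈ cen S ∧ ((h z : P) : Ω) ∉ A) →
          ∀ z : P, (z : Ω) ∈ W ↔ (z : Ω) ∈ cen S ∧ ((h⁻¹ z : P) : Ω) ∈ cen S := by
        intro h hh hmove z
        obtain ⟨γ', hγ', hW'⟩ := H.exists_refl hF hp2 hAe hP hx hxA hB hh hmove
        constructor
        · rintro ⟨hz, ez⟩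
          refine ⟨hz, (hW' z hz).1 ?_⟩
          rw [← Refl.eq_on_cen H.hS hF hL hγ hγ' ⟨z, hz.1⟩ hz]
          exact ez
        · rintro ⟨hz, hz'⟩
          refine ⟨hz, ?_⟩
          rw [Refl.eq_on_cen H.hS hF hL hγ hγ' ⟨z, hz.1⟩ hz]
          exact (hW' z hz).2 hz'
      intro α hα z hzW
      by_cases hm : ∃ z : P, (z : Ω) ∈ cen S ∧ ((α⁻¹ z : P) : Ω) ∉ A
      · have h1 := (hchar α⁻¹ (inv_mem hα) hm z).1 hzW
        rw [inv_inv] at h1
        by_cases hm' : ∃ z : P, (z : Ω) ∈ cen S ∧ ((α z : P) : Ω) ∉ A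
        · refine (hchar α hα hm' _).2 ⟨h1.2, ?_⟩
          rw [MulAut.inv_apply_self]; exact h1.1
        · push Not at hm'
          exfalso
          obtain ⟨w, hw, hwA⟩ := hm
          haveI : Finite ↥((cen S).subgroupOf P) := inferInstance
          have hle : ((cen S).subgroupOf P).map α.toMonoidHom ≤ (cen S).subgroupOf P := by
            rintro _ ⟨u, hu, rfl⟩
            exact Subgroup.mem_subgroupOf.2 (hB.le ⟨(α u).2, hm' u hu⟩)
          have heq := Subgroup.eq_of_le_of_card_ge hle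
            (Nat.card_congr (((cen S).subgroupOf P).equivMapOfInjective α.toMonoidHom α.injective).toEquiv).le
          obtain ⟨u, hu, hue⟩ := heq.ge (Subgroup.mem_subgroupOf.2 hw)
          apply hwA
          rw [← hue]
          show ((α⁻¹ (α u) : P) : Ω) ∈ A
          rw [MulAut.inv_apply_self]
          exact H.cen_le_A hu
      · push Not at hm
        have hle : ((cen S).subgroupOf P).map α⁻¹.toMonoidHom ≤ (cen S).subgroupOf P := by
          rintro _ ⟨u, hu, rfl⟩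
          exact Subgroup.mem_subgroupOf.2 (hB.le ⟨(α⁻¹ u).2, hm u hu⟩)
        have heq := Subgroup.eq_of_le_of_card_ge hle
          (Nat.card_congr (((cen S).subgroupOf P).equivMapOfInjective α⁻¹.toMonoidHom
            (α⁻¹).injective).toEquiv).le
        have hkeep : ∀ u : P, (u : Ω) ∈ cen S → ((α u : P) : Ω) ∈ cen S := by
          intro u hu
          obtain ⟨v, hv, hve⟩ := heq.ge (Subgroup.mem_subgroupOf.2 hu)
          rw [← hve]
          show ((α (α⁻¹ v) : P) : Ω) ∈ cen S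
          rw [MulAut.apply_inv_self]
          exact hv
        obtain ⟨h, hh, w, hw, hwA⟩ := H.exists_moving hF hP hx hxA hB
        have hmv : ∃ z : P, (z : Ω) ∈ cen S ∧ (((α * h) z : P) : Ω) ∉ A := by
          refine ⟨w, hw, fun hA' => hwA ?_⟩
          have h2 := hm ((α * h) w) (hB.le ⟨((α * h) w).2, hA'⟩)
          rwa [MulAut.mul_apply, MulAut.inv_apply_self] at h2
        refine (hchar (α * h) (mul_mem hα hh) hmv _).2 ⟨hkeep z hzW.1, ?_⟩
        rw [mul_inv_rev, MulAut.mul_apply, MulAut.inv_apply_self]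
        exact ((hchar h hh ⟨w, hw, hwA⟩ z).1 hzW).2
    · obtain ⟨-, -, -, hnab, -⟩ := H.nonabelian_case hF hP hx hxA hB
      intro α hα z hzW
      obtain ⟨δ, hδ, hd⟩ := H.extCen_all hF hAe P _ ((mem_autGroup hP.2.1.1).1 hα) hZP hnab
      have he : ((α z : P) : Ω) = ((δ ⟨z, hzW.1.1⟩ : S) : Ω) := hd z hzW.1
      rw [he]
      obtain ⟨hz, ez⟩ := hzW
      exact ⟨cen_aut hz, Refl.conj H.hS hF hL hγ hδ hz ez⟩
  have hWbot : W = ⊥ := le_bot_iff.1 (hcore ▸ FS.le_core_of_isNormal hWn)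
  obtain ⟨-, w₁, hw₁, hw₁D, -, hgen, -⟩ := H.abelian_key hF hP₀ hx₀ hx₀A hB₀ hh₀ hmove₀
  have hZP := H.cen_le_essential hP₀
  have hle : cen S ≤ ⁅S, S⁆ := by
    intro z hz
    obtain ⟨i, hi⟩ := hgen ⟨z, hZP hz⟩ hz
    set u : P₀ := ⟨z, hZP hz⟩ * w₁ ^ (-i) with hu
    have huc : (u : Ω) ∈ cen S := by simpa [hu] using (cen S).mul_mem hz ((cen S).zpow_mem hw₁ (-i))
    have huW : (u : Ω) ∈ W := ⟨huc, (hW₀ u huc).2 hi⟩
    rw [hWbot, Subgroup.mem_bot] at huW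
    have : z = ((w₁ ^ i : P₀) : Ω) := by
      have h1 : z * ((w₁ ^ i : P₀) : Ω)⁻¹ = 1 := by rw [← huW, hu]; simp
      exact mul_inv_eq_one.1 h1
    rw [this, SubgroupClass.coe_zpow]
    exact ⁅S, S⁆.zpow_mem hw₁D i
  refine ⟨hle, ?_⟩
  rw [← hL, inf_eq_left.2 hle]

end Setup

end Cfsg.Agent.Lib.AbelIndexP
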