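import Cfsg.Agent.Lib.AbelIndexP.Basic
import Cfsg.Agent.Lib.FusionSystem.Essential

/-!
Essential subgroups of fusion systems over a `p`-group with an abelian subgroup of index `p`.
-/

set_option autoImplicit false
set_option linter.unusedSectionVars false
set_option linter.style.haveILetI false

namespace Cfsg.Agent.Lib.AbelIndexP

open Cfsg Cfsg.FusionSystem
open scoped commutatorElement
open Cfsg.Agent.Lib.FS (finite_sub isConj_refl mem_autInducedBy mem_normalizer_of_conj_mem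
  radical_of_essential not_inn_of_not_mem autInducedBy_le_autGroup fullyAutomized_of_fullyNormalized
  receptive_of_fullyNormalized isPGroup_of_le conj_mem_of_normalizer)

variable {Ω : Type*} [Group Ω] {S A : Subgroup Ω} {p : ℕ}

/-- Automorphisms of `G` centralising `W` pointwise and trivial on `G / W`. -/
def stab {G : Type*} [Group G] (W : Subgroup G) : Subgroup (MulAut G) where
  carrier := {α | (∀ w ∈ W, α w = w) ∧ ∀ y, α y * y⁻¹ ∈ W}
  one_mem' := ⟨fun w _ => rfl, fun y => by simp⟩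
  mul_mem' := by
    rintro a b ⟨ha, ha'⟩ ⟨hb, hb'⟩
    refine ⟨fun w hw => by rw [MulAut.mul_apply, hb w hw, ha w hw], fun y => ?_⟩
    have e : (a * b) y * y⁻¹ = a (b y * y⁻¹) * (a y * y⁻¹) := by
      rw [MulAut.mul_apply, map_mul, map_inv]; group
    rw [e, ha _ (hb' y)]
    exact W.mul_mem (hb' y) (ha' y)
  inv_mem' := by
    rintro a ⟨ha, ha'⟩
    have h1 : ∀ w ∈ W, a⁻¹ w = w := fun w hw => by
      conv_lhs => rw [← ha w hw]
      rw [MulAut.inv_apply_self]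
    refine ⟨h1, fun y => ?_⟩
    have h2 := ha' (a⁻¹ y)
    rw [MulAut.apply_inv_self] at h2
    simpa using W.inv_mem h2

theorem stab_pow_apply {G : Type*} [Group G] {W : Subgroup G} {α : MulAut G} (hα : α ∈ stab W) (y : G) (n : ℕ) :
    (α ^ n) y = (α y * y⁻¹) ^ n * y := by
  induction n with
  | zero => simp
  | succ n ih =>
    rw [pow_succ', MulAut.mul_apply, ih, map_mul, map_pow, hα.1 _ (hα.2 y), pow_succ]
    group

theorem stab_isPGroup {G : Type*} [Group G] [Finite G] {p : ℕ} [Fact p.Prime] (hG : IsPGroup p G)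
    (W : Subgroup G) : IsPGroup p (stab W) := by
  rintro ⟨α, hα⟩
  obtain ⟨k, hk⟩ := IsPGroup.iff_card.1 (hG.to_subgroup W)
  refine ⟨k, Subtype.ext (MulEquiv.ext fun y => ?_)⟩
  rw [SubgroupClass.coe_pow, stab_pow_apply hα]
  have h1 : (⟨_, hα.2 y⟩ : W) ^ (p ^ k) = 1 := by rw [← hk]; exact pow_card_eq_one'
  have h2 : (α y * y⁻¹) ^ (p ^ k) = 1 := by simpa using congrArg Subtype.val h1
  rw [h2, one_mul]
  rfl

/-- A `p`-subgroup normalised by a Sylow `p`-subgroup is contained in it. -/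
theorem le_sylow_of_normalized {G : Type*} [Group G] {p : ℕ} (R : Sylow p G) {K : Subgroup G}
    (hK : IsPGroup p K) (h : ∀ r ∈ (R : Subgroup G), ∀ k ∈ K, r * k * r⁻¹ ∈ K) : K ≤ R := by
  have hN : (R : Subgroup G) ≤ Subgroup.normalizer (K : Set G) := fun r hr k =>
    ⟨fun hk => h r hr k hk, fun hk => by
      have h1 := h r⁻¹ (R.inv_mem hr) _ hk
      simpa [mul_assoc] using h1⟩
  have h1 := R.is_maximal' (R.isPGroup'.to_sup_of_normal_right' hK hN) le_sup_left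
  exact le_sup_right.trans h1.le

variable [hp : Fact p.Prime] [Finite S] {F : FusionSystem S} {P : Subgroup Ω}

/-- The automorphism of `P` induced by a normalising element. -/
def cj {g : Ω} (hg : g ∈ normalizerIn S P) : MulAut P := P.normalizerMonoidHom ⟨g, hg.2⟩

theorem cj_apply {g : Ω} (hg : g ∈ normalizerIn S P) (y : P) : ((cj hg y : P) : Ω) = g * y * g⁻¹ := rfl

theorem cj_mem_induced {g : Ω} (hg : g ∈ normalizerIn S P) : cj hg ∈ autInducedBy S P :=
  mem_autInducedBy.2 ⟨g, hg.1, fun _ => rfl⟩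

/-- No element outside an essential subgroup stabilises a series given by an invariant subgroup. -/
theorem stab_false (hS : IsPGroup p S) (hF : F.IsSaturated p) (hP : F.IsEssential p P) (W : Subgroup P)
    (hW : ∀ α ∈ F.autGroup P, ∀ w ∈ W, α w ∈ W) {g : Ω} (hg : g ∈ normalizerIn S P) (hgP : g ∉ P)
    (h1 : ∀ w ∈ W, g * (w : Ω) * g⁻¹ = w)
    (h2 : ∀ y : P, ∃ w ∈ W, g * (y : Ω) * g⁻¹ = w * y) : False := by
  have hPS : P ≤ S := hP.2.1.1
  haveI := finite_sub hPS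
  have hcA : cj hg ∈ F.autGroup P := autInducedBy_le_autGroup F hPS (cj_mem_induced hg)
  have hck : cj hg ∈ stab W := by
    refine ⟨fun w hw => Subtype.ext (h1 w hw), fun y => ?_⟩
    obtain ⟨w, hw, he⟩ := h2 y
    have : cj hg y = w * y := Subtype.ext he
    rw [this, mul_inv_cancel_right]
    exact hw
  let K := (stab W).subgroupOf (F.autGroup P)
  haveI hKn : K.Normal := by
    refine ⟨fun n hn γ => ?_⟩
    obtain ⟨hn1, hn2⟩ := Subgroup.mem_subgroupOf.1 hn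
    have hinv : ∀ w ∈ W, (γ : MulAut P)⁻¹ w ∈ W := hW _ (inv_mem γ.2)
    refine Subgroup.mem_subgroupOf.2 ⟨fun w hw => ?_, fun y => ?_⟩
    · simp only [Subgroup.coe_mul, Subgroup.coe_inv, MulAut.mul_apply]
      rw [hn1 _ (hinv w hw), MulAut.apply_inv_self]
    · simp only [Subgroup.coe_mul, Subgroup.coe_inv, MulAut.mul_apply]
      have e : (γ : MulAut P) ((n : MulAut P) ((γ : MulAut P)⁻¹ y)) * y⁻¹ =
          (γ : MulAut P) ((n : MulAut P) ((γ : MulAut P)⁻¹ y) * ((γ : MulAut P)⁻¹ y)⁻¹) := by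
        rw [map_mul, map_inv (γ : MulAut P), MulAut.apply_inv_self]
      rw [e]
      exact hW _ γ.2 _ (hn2 _)
  have hKp : IsPGroup p K :=
    (stab_isPGroup (isPGroup_of_le hS hPS) W).of_injective
      { toFun := fun k => ⟨((k : F.autGroup P) : MulAut P), Subgroup.mem_subgroupOf.1 k.2⟩
        map_one' := rfl
        map_mul' := fun _ _ => rfl }
      (fun a b h => by
        have := congrArg Subtype.val h
        exact Subtype.ext (Subtype.ext this))
  have hinn : cj hg ∈ Inn P := by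
    rw [← (radical_of_essential hS hF hP).2]
    exact ⟨⟨cj hg, hcA⟩, Cores.le_pCore hKp (Subgroup.mem_subgroupOf.2 hck), rfl⟩
  exact not_inn_of_not_mem (hP.1.2 P (isConj_refl F hPS)) hPS hg hgP hinn

namespace Setup

variable (H : Setup S A p)
include H

theorem cen_le_essential (hP : F.IsEssential p P) : cen S ≤ P := fun z hz =>
  hP.1.2 P (isConj_refl F hP.2.1.1) ⟨hz.1, fun y hy => hz.2 y (hP.2.1.1 hy)⟩

theorem eq_or_exists (hP : F.IsEssential p P) : P = A ∨ ∃ x ∈ P, x ∉ A := by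
  by_cases h : P ≤ A
  · refine Or.inl (le_antisymm h fun a ha => hP.1.2 P (isConj_refl F hP.2.1.1) ⟨H.le ha, fun y hy => ?_⟩)
    exact H.comm y (h hy) a ha
  · exact Or.inr (SetLike.not_le_iff_exists.1 h)

theorem exists_normalizing (hF : F.IsSaturated p) (hP : F.IsEssential p P) {x : Ω} (hx : x ∈ P) (hxA : x ∉ A) :
    ∃ a ∈ A, a ∈ normalizerIn S P ∧ a ∉ P := by
  obtain ⟨M, -, -, -, hne⟩ := FusionEssential.exists_data H.hS hF hP
  obtain ⟨g, hg, hgP⟩ := SetLike.exists_of_lt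
    (FusionP3.Induction.lt_normalizerIn H.hS (lt_of_le_of_ne hP.2.1.1 hne))
  obtain ⟨a, ha, i, rfl⟩ := H.exists_decomp (hP.2.1.1 hx) hxA hg.1
  refine ⟨a, ha, ?_, fun h => hgP (P.mul_mem h (P.zpow_mem hx i))⟩
  have := (normalizerIn S P).mul_mem hg ((normalizerIn S P).inv_mem
    ((normalizerIn S P).zpow_mem (Cfsg.Agent.Lib.FS.le_normalizerIn hP.2.1.1 hx) i))
  rwa [mul_inv_cancel_right] at this

theorem comm_mem_inter (hPS : P ≤ S) {a y : Ω} (ha : a ∈ A) (hn : a ∈ normalizerIn S P) (hy : y ∈ P) :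
    ⁅a, y⁆ ∈ P ⊓ A :=
  ⟨P.mul_mem (conj_mem_of_normalizer hn.2 hy) (P.inv_mem hy), H.comm_mem (hPS hy) ha⟩

theorem normalizes_of_comm (hP : F.IsEssential p P) {x a : Ω} (hx : x ∈ P) (hxA : x ∉ A) (ha : a ∈ A)
    (h : ⁅a, x⁆ ∈ cen S) : a ∈ normalizerIn S P := by
  haveI := finite_sub hP.2.1.1
  refine ⟨H.le ha, mem_normalizer_of_conj_mem fun y hy => ?_⟩
  obtain ⟨b, hb, i, rfl⟩ := H.exists_decomp_in hP.2.1.1 hx hxA hy
  have h1 := H.cen_le_essential hP (H.comm_right (hP.2.1.1 hx) ha h i)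
  have e : a * (b * x ^ i) * a⁻¹ = a * b * a⁻¹ * (⁅a, x ^ i⁆ * x ^ i) := by
    simp only [commutatorElement_def]; group
  rw [e, H.comm a ha b hb.2, mul_inv_cancel_right]
  exact P.mul_mem hb.1 (P.mul_mem h1 (P.zpow_mem hx i))

/-- The index statement from the corresponding statement for the abelian parts. -/
theorem relIndex_normalizer (hPS : P ≤ S) {x : Ω} (hx : x ∈ P) (hxA : x ∉ A)
    (h : (P ⊓ A).relIndex (normalizerIn S P ⊓ A) = p) : P.relIndex (normalizerIn S P) = p := by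
  have hPN : P ≤ normalizerIn S P := Cfsg.Agent.Lib.FS.le_normalizerIn hPS
  have h1 := H.relIndex_inf hPS hx hxA
  have h2 := H.relIndex_inf (K := normalizerIn S P) inf_le_left (hPN hx) hxA
  have h3 := Subgroup.relIndex_mul_relIndex (P ⊓ A) P (normalizerIn S P) inf_le_left hPN
  have h4 := Subgroup.relIndex_mul_relIndex (P ⊓ A) (normalizerIn S P ⊓ A) (normalizerIn S P)
    (inf_le_inf_right A hPN) inf_le_left
  rw [h1] at h3
  rw [h, h2] at h4
  exact Nat.eq_of_mul_eq_mul_left hp.out.pos (h3.trans h4.symm)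

/-- The case `Z(S) < P ∩ A`. -/
theorem nonabelian_case (hF : F.IsSaturated p) (hP : F.IsEssential p P) {x : Ω} (hx : x ∈ P) (hxA : x ∉ A)
    (hne : P ⊓ A ≠ cen S) :
    P ⊓ A = (Subgroup.upperCentralSeries ↥S 2).map S.subtype ∧
      (P ⊓ A).relIndex (normalizerIn S P ⊓ A) = p ∧
      (∀ z ∈ P, (∀ y ∈ P, y * z = z * y) → z ∈ cen S) ∧ ¬ IsMulCommutative P ∧
      (cen S).relIndex (P ⊓ A) = p := by
  have hPS : P ≤ S := hP.2.1.1
  haveI := finite_sub hPS
  have hxS := hPS hx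
  have hZB : cen S ≤ P ⊓ A := le_inf (H.cen_le_essential hP) H.cen_le_A
  obtain ⟨b₀, hb₀, hb₀Z⟩ := SetLike.exists_of_lt (lt_of_le_of_ne hZB (Ne.symm hne))
  have hcenP : ∀ z ∈ P, (∀ y ∈ P, y * z = z * y) → z ∈ cen S := by
    intro z hz hzc
    by_cases hzA : z ∈ A
    · exact H.cen_of_commute hxS hxA hzA (hzc x hx)
    · exact absurd (H.cen_of_commute (hPS hz) hzA hb₀.2 (hzc b₀ hb₀.1).symm) hb₀Z
  obtain ⟨a₀, ha₀, ha₀N, ha₀P⟩ := H.exists_normalizing hF hP hx hxA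
  -- a moved element of the intersection
  obtain ⟨g, hgA, b, hbA, hgb⟩ : ∃ g ∈ F.autGroup P, ∃ b : P, (b : Ω) ∈ A ∧ ((g b : P) : Ω) ∉ A := by
    by_contra hall
    push Not at hall
    refine stab_false H.hS hF hP (A.subgroupOf P) (fun α hα w hw => Subgroup.mem_subgroupOf.2
      (hall α hα w (Subgroup.mem_subgroupOf.1 hw))) ha₀N ha₀P (fun w hw => ?_) (fun y => ?_)
    · rw [H.comm a₀ ha₀ w (Subgroup.mem_subgroupOf.1 hw), mul_inv_cancel_right]
    · have h1 := H.comm_mem_inter hPS ha₀ ha₀N y.2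
      exact ⟨⟨_, h1.1⟩, Subgroup.mem_subgroupOf.2 h1.2, by
        show a₀ * (y : Ω) * a₀⁻¹ = ⁅a₀, (y : Ω)⁆ * y
        rw [commutatorElement_def, inv_mul_cancel_right]⟩
  -- the kernel of `c ↦ g c` modulo `A` on the intersection is the centre
  have hker : ∀ c : P, (c : Ω) ∈ A → ((g c : P) : Ω) ∈ A → (c : Ω) ∈ cen S := by
    intro c hc hgc
    refine hcenP c c.2 fun z hz => ?_
    have hgcc : ((g c : P) : Ω) ∈ cen S := by
      refine H.cen_of_commute (hPS (g b).2) hgb hgc ?_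
      have : g b * g c = g c * g b := by
        rw [← map_mul, ← map_mul, show b * c = c * b from Subtype.ext (H.comm b hbA c hc)]
      exact congrArg Subtype.val this
    have h1 : g ⟨z, hz⟩ * g c = g c * g ⟨z, hz⟩ := Subtype.ext (hgcc.2 _ (hPS (g ⟨z, hz⟩).2))
    rw [← map_mul, ← map_mul] at h1
    exact congrArg Subtype.val (g.injective h1)
  have hcinv : ∀ α ∈ F.autGroup P, ∀ w ∈ (cen S).subgroupOf P, α w ∈ (cen S).subgroupOf P := by
    intro α _ w hw
    refine Subgroup.mem_subgroupOf.2 (hcenP _ (α w).2 fun z hz => ?_)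
    obtain ⟨z', hz'⟩ := α.surjective ⟨z, hz⟩
    have h1 : z' * w = w * z' := Subtype.ext ((Subgroup.mem_subgroupOf.1 hw).2 _ (hPS z'.2))
    have h2 := congrArg α h1
    rw [map_mul, map_mul, hz'] at h2
    exact congrArg Subtype.val h2
  -- elements of `A` with central commutator
  have hkerB : ∀ a ∈ A, ⁅a, x⁆ ∈ cen S → a ∈ P := by
    intro a ha hax
    by_contra haP
    refine stab_false H.hS hF hP ((cen S).subgroupOf P) hcinv (H.normalizes_of_comm hP hx hxA ha hax) haP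
      (fun w hw => ?_) (fun y => ?_)
    · rw [(Subgroup.mem_subgroupOf.1 hw).2 a (H.le ha), mul_inv_cancel_right]
    · obtain ⟨c, hc, i, hy⟩ := H.exists_decomp hxS hxA (hPS y.2)
      have hax' := H.comm_right hxS ha hax i
      refine ⟨⟨_, H.cen_le_essential hP hax'⟩, Subgroup.mem_subgroupOf.2 hax', ?_⟩
      show a * (y : Ω) * a⁻¹ = ⁅a, x ^ i⁆ * y
      rw [hy]
      have e : a * (c * x ^ i) * a⁻¹ = a * c * a⁻¹ * ⁅a, x ^ i⁆ * x ^ i := by
        simp only [commutatorElement_def]; group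
      rw [e, H.comm a ha c hc, mul_inv_cancel_right, hax'.2 c (H.le hc), mul_assoc]
  -- the intersection modulo the centre has order `p`
  have hBgen : ∀ c : P, (c : Ω) ∈ A → ∃ i : ℤ, ((c * b ^ (-i) : P) : Ω) ∈ cen S := by
    intro c hc
    obtain ⟨i, hi⟩ := H.exists_zpow (hPS (g b).2) hgb (hPS (g c).2)
    refine ⟨i, hker _ (by simpa using A.mul_mem hc (A.inv_mem (A.zpow_mem hbA i))) ?_⟩
    simpa using hi
  -- commutators with `x` of the intersection are central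
  have hBx : ∀ c ∈ P ⊓ A, ⁅c, x⁆ ∈ cen S := by
    intro c hc
    obtain ⟨d, hd⟩ : ∃ d : P, (d : Ω) = ⁅c, x⁆ :=
      ⟨⟨_, (H.comm_mem_inter hPS hc.2 (Cfsg.Agent.Lib.FS.le_normalizerIn hPS hc.1) hx).1⟩, rfl⟩
    rw [← hd]
    refine hker d (hd ▸ H.comm_mem hxS hc.2) ?_
    have h1 : g d = ⁅g ⟨c, hc.1⟩, g ⟨x, hx⟩⁆ := by
      rw [← map_commutatorElement]; exact congrArg g (Subtype.ext hd)
    rw [h1]
    obtain ⟨u, hu, i, hui⟩ := H.exists_decomp (hPS (g b).2) hgb (hPS (g ⟨x, hx⟩).2)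
    obtain ⟨v, hv, j, hvj⟩ := H.exists_decomp (hPS (g b).2) hgb (hPS (g ⟨c, hc.1⟩).2)
    show ⁅((g ⟨c, hc.1⟩ : P) : Ω), ((g ⟨x, hx⟩ : P) : Ω)⁆ ∈ A
    rw [hui, hvj]
    have hd' := hPS (g b).2
    have e : ⁅v * ((g b : P) : Ω) ^ j, u * ((g b : P) : Ω) ^ i⁆ =
        v * ((((g b : P) : Ω) ^ j) * u * (((g b : P) : Ω) ^ j)⁻¹) *
          ((((g b : P) : Ω) ^ i) * v⁻¹ * (((g b : P) : Ω) ^ i)⁻¹) * u⁻¹ := by
      simp only [commutatorElement_def]; group
    rw [e]
    exact A.mul_mem (A.mul_mem (A.mul_mem hv (H.conj_mem (S.zpow_mem hd' j) hu))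
      (H.conj_mem (S.zpow_mem hd' i) (A.inv_mem hv))) (A.inv_mem hu)
  have hnot : ⁅a₀, x⁆ ∉ cen S := fun h => ha₀P (hkerB a₀ ha₀ h)
  have hrel : (P ⊓ A).relIndex (normalizerIn S P ⊓ A) = p := by
    haveI : Finite ↥(normalizerIn S P ⊓ A) := finite_sub (inf_le_left.trans inf_le_left)
    let w₀ : P := ⟨_, (H.comm_mem_inter hPS ha₀ ha₀N hx).1⟩
    have hgw₀ : ((g w₀ : P) : Ω) ∉ A := fun h => hnot (hker w₀ (H.comm_mem hxS ha₀) h)
    refine relIndex_eq_prime (a₀ := a₀) (inf_le_inf_right A (Cfsg.Agent.Lib.FS.le_normalizerIn hPS))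
      (fun a ha c hc => H.comm a ha.2 c hc.2) ⟨ha₀N, ha₀⟩ (fun h => ha₀P h.1) ⟨?_, A.pow_mem ha₀ p⟩ ?_
    · refine hkerB _ (A.pow_mem ha₀ p) ?_
      rw [H.comm_pow hxS ha₀]
      have := hker (w₀ ^ p) (by simpa using A.pow_mem (H.comm_mem hxS ha₀) p)
        (by rw [map_pow, SubgroupClass.coe_pow]; exact H.pow_mem (hPS (g w₀).2))
      simpa [w₀] using this
    · intro a ha
      let w : P := ⟨_, (H.comm_mem_inter hPS ha.2 ha.1 hx).1⟩
      obtain ⟨i, hi⟩ := H.exists_zpow (hPS (g w₀).2) hgw₀ (hPS (g w).2)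
      have hA' := A.mul_mem ha.2 (A.zpow_mem ha₀ (-i))
      refine ⟨i, hkerB _ hA' ?_, hA'⟩
      rw [H.comm_mul hxS ha.2 (A.zpow_mem ha₀ _), H.comm_zpow hxS ha₀]
      have := hker (w * w₀ ^ (-i))
        (by simpa [w, w₀] using A.mul_mem (H.comm_mem hxS ha.2) (A.inv_mem (A.zpow_mem (H.comm_mem hxS ha₀) i)))
        (by simpa using hi)
      simpa [w, w₀] using this
  have hrelB : (cen S).relIndex (P ⊓ A) = p := by
    haveI : Finite ↥(P ⊓ A) := finite_sub (inf_le_left.trans hPS)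
    refine relIndex_eq_prime (a₀ := (b : Ω)) hZB (fun a ha c hc => H.comm a ha.2 c hc.2) ⟨b.2, hbA⟩
      (fun hb => hgb ?_) ?_ fun a ha => ?_
    · have hcb : g b ∈ (cen S).subgroupOf P := hcinv g hgA b (Subgroup.mem_subgroupOf.2 hb)
      exact H.cen_le_A (Subgroup.mem_subgroupOf.1 hcb)
    · simpa using hker (b ^ p) (by simpa using A.pow_mem hbA p)
        (by rw [map_pow, SubgroupClass.coe_pow]; exact H.pow_mem (hPS (g b).2))
    · obtain ⟨i, hi⟩ := hBgen ⟨a, ha.1⟩ ha.2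
      exact ⟨i, by simpa using hi⟩
  refine ⟨le_antisymm (fun c hc => ?_) (fun y hy => ?_), hrel, hcenP, fun h => ?_, hrelB⟩
  · refine H.mem_upperTwo_iff.2 ⟨hPS hc.1, fun s hs => ?_⟩
    obtain ⟨a, ha, i, rfl⟩ := H.exists_decomp hxS hxA hs
    have hci := H.comm_right hxS hc.2 (hBx c hc) i
    have e : ⁅c, a * x ^ i⁆ = ⁅c, a⁆ * (a * ⁅c, x ^ i⁆ * a⁻¹) := by
      simp only [commutatorElement_def]; group
    rw [e, commutatorElement_eq_one_iff_mul_comm.2 (H.comm c hc.2 a ha), one_mul, hci.2 a (H.le ha),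
      mul_inv_cancel_right]
    exact hci
  · obtain ⟨hyS, hy⟩ := H.mem_upperTwo_iff.1 hy
    by_cases hyA : y ∈ A
    · exact ⟨hkerB y hyA (hy x hxS), hyA⟩
    exfalso
    obtain ⟨c, hc, k, hk⟩ := H.exists_decomp hyS hyA hxS
    have h1 : ⁅a₀, y⁆ ∈ cen S := by
      rw [← commutatorElement_inv]; exact (cen S).inv_mem (hy a₀ (H.le ha₀))
    have h2 := H.comm_right hyS ha₀ h1 k
    apply hnot
    rw [hk]
    have e : ⁅a₀, c * y ^ k⁆ = ⁅a₀, c⁆ * (c * ⁅a₀, y ^ k⁆ * c⁻¹) := by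
      simp only [commutatorElement_def]; group
    rw [e, commutatorElement_eq_one_iff_mul_comm.2 (H.comm a₀ ha₀ c hc), one_mul, h2.2 c (H.le hc),
      mul_inv_cancel_right]
    exact h2
  · exact hb₀Z (hcenP b₀ hb₀.1 fun z hz => congrArg Subtype.val (h.is_comm.comm ⟨z, hz⟩ ⟨b₀, hb₀.1⟩))

end Setup

end Cfsg.Agent.Lib.AbelIndexP
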